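import Cfsg.Agent.Mrg.Omega.NOThree.Ru.Frame
import Mathlib
import Cfsg.Agent.MinSimple.VModule

section


/-!
# The plane configuration: the commutator table

`io x0 x1 x2 n` : the element of `U` with the bits of `n`; `A f a i = f^i a f^-i`; `E k` (`k < 14`) is
`A a 0, A b 0, A a 1, A b 1, ..`; `M14 k l` is the number of the commutator `[E k, E l]`.
-/

set_option autoImplicit false

namespace Cfsg.Agent.Omega.NOThree.Ru

open Subgroup Cfsg Cfsg.Agent.MinSimple.Geo Code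

variable {G : Type*} [Group G]

/-- the element of `U` with the bits of `n` -/
def io (x0 x1 x2 : G) (n : ℕ) : G :=
  (if n % 2 = 1 then x0 else 1) * (if n / 2 % 2 = 1 then x1 else 1) * (if n / 4 % 2 = 1 then x2 else 1)

/-- the numbers of the points -/
def X (j : ℕ) : ℕ := [1, 2, 4, 3, 6, 7, 5].getD (j % 7) 0

/-- `f ^ i a f ^ -i` -/
def A (f a : G) (i : ℕ) : G := f ^ i * a * (f ^ i)⁻¹

theorem A_zero (f a : G) : A f a 0 = a := by simp [A]

theorem A_succ (f a : G) (i : ℕ) : A f a (i + 1) = f * A f a i * f⁻¹ := by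
  simp only [A, pow_succ']; group

theorem A_add (f a : G) (i j : ℕ) : A f a (i + j) = f ^ i * A f a j * (f ^ i)⁻¹ := by
  simp only [A, pow_add]; group

theorem A_seven {f a : G} (hf : f ^ 7 = 1) (i : ℕ) : A f a (i + 7) = A f a i := by
  simp only [A, pow_add, hf, mul_one]

/-- the flag elements -/
def E (f a b : G) (k : ℕ) : G := if k % 2 = 0 then A f a (k / 2) else A f b (k / 2)

theorem io_zero (x0 x1 x2 : G) : io x0 x1 x2 0 = 1 := by simp [io]
theorem io_one (x0 x1 x2 : G) : io x0 x1 x2 1 = x0 := by simp [io]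
theorem io_two (x0 x1 x2 : G) : io x0 x1 x2 2 = x1 := by simp [io]
theorem io_three (x0 x1 x2 : G) : io x0 x1 x2 3 = x0 * x1 := by simp [io]
theorem io_four (x0 x1 x2 : G) : io x0 x1 x2 4 = x2 := by simp [io]
theorem io_five (x0 x1 x2 : G) : io x0 x1 x2 5 = x0 * x2 := by simp [io]
theorem io_six (x0 x1 x2 : G) : io x0 x1 x2 6 = x1 * x2 := by simp [io]
theorem io_seven (x0 x1 x2 : G) : io x0 x1 x2 7 = x0 * x1 * x2 := by simp [io]

/-- independent numbers -/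
def IndN (m n k : ℕ) : Prop := m < 8 ∧ n < 8 ∧ k < 8 ∧ m ≠ 0 ∧ n ≠ 0 ∧ k ≠ 0 ∧ m ≠ n ∧ m ≠ k ∧ n ≠ k ∧ m ^^^ n ≠ k

instance (m n k : ℕ) : Decidable (IndN m n k) := by unfold IndN; infer_instance

/-- `f` on the numbers of the elements of `U` -/
def FU (n : ℕ) : ℕ := dot [2, 4, 3] n

/-- `h` on the numbers of the elements of `U` -/
def HU (n : ℕ) : ℕ := dot [1, 4, 6] n

/-- the commutators `[E k, E l]` -/
def M14 : List (List ℕ) := [[0, 0, 2, 0, 6, 7, 3, 3, 1, 4, 4, 1, 1, 6], [0, 0, 7, 1, 4, 4, 7, 6, 1, 2, 3, 1, 0, 5], [2, 7, 0, 0, 4, 0, 7, 5, 6, 6, 2, 3, 3, 2], [0, 1, 0, 0, 5, 2, 3, 3, 5, 7, 2, 4, 6, 2], [6, 4, 4, 5, 0, 0, 3, 0, 5, 1, 7, 7, 4, 6], [7, 4, 0, 2, 0, 0, 1, 4, 6, 6, 1, 5, 4, 3], [3, 7, 7, 3, 3, 1, 0, 0, 6, 0, 1, 2, 5, 5], [3, 6, 5, 3, 0, 4, 0, 0, 2, 3, 7, 7, 2, 1], [1, 1, 6, 5, 5, 6, 6, 2, 0, 0, 7, 0, 2, 4], [4, 2, 6, 7, 1, 6, 0, 3, 0, 0, 4, 6, 5, 5], [4, 3, 2, 2, 7, 1, 1, 7, 7, 4, 0, 0, 5,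 0], [1, 1, 3, 4, 7, 5, 2, 7, 0, 6, 0, 0, 3, 7], [1, 0, 3, 6, 4, 4, 5, 2, 2, 5, 5, 3, 0, 0], [6, 5, 2, 2, 6, 3, 5, 1, 4, 5, 0, 7, 0, 0]]

def mm (k l : ℕ) : ℕ := (M14.getD k []).getD l 0

theorem FU_mm : ∀ k < 12, ∀ l < 12, mm (k + 2) (l + 2) = FU (mm k l) := by decide +kernel

theorem FU_mm' : ∀ k < 12, ∀ l < 2, mm (k + 2) l = FU (mm k (l + 12)) := by decide +kernel

theorem mm_symm : ∀ k < 14, ∀ l < 14, mm k l = mm l k := by decide +kernel

theorem X_succ (j : ℕ) : X (j + 1) = FU (X j) := by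
  have h1 : ∀ r < 7, X (r + 1) = FU (X r) := by decide +kernel
  have h2 := h1 (j % 7) (Nat.mod_lt _ (by norm_num))
  have e1 : X (j % 7 + 1) = X (j + 1) := by
    unfold X; rw [Nat.mod_add_mod]
  have e2 : X (j % 7) = X j := by
    unfold X; rw [Nat.mod_mod]
  rw [e1, e2] at h2
  exact h2

namespace Frame

variable {z : G} {U : Subgroup G} {W K L : G → Subgroup G} {x0 x1 x2 f t a b : G}

theorem io_mem (F : Frame U W K x0 x1 x2 f t a b) (n : ℕ) : io x0 x1 x2 n ∈ U := by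
  unfold io
  refine mul_mem (mul_mem ?_ ?_) ?_
  · split_ifs
    exacts [F.ind.p_mem, one_mem _]
  · split_ifs
    exacts [F.ind.q_mem, one_mem _]
  · split_ifs
    exacts [F.ind.w_mem, one_mem _]

theorem io_xor (F : Frame U W K x0 x1 x2 f t a b) (h : Plane z U W K L) (m n : ℕ) :
    io x0 x1 x2 (m ^^^ n) = io x0 x1 x2 m * io x0 x1 x2 n := by
  have m0 := F.ind.p_mem
  have m1 := F.ind.q_mem
  have m2 := F.ind.w_mem
  have key : ∀ (x : G) (i j : ℕ), x * x = 1 → (if (i ^^^ j) % 2 = 1 then x else 1) =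
      (if i % 2 = 1 then x else 1) * (if j % 2 = 1 then x else 1) := by
    intro x i j hx
    rw [xor_mod_two]
    rcases Nat.mod_two_eq_zero_or_one i with hi | hi <;> rcases Nat.mod_two_eq_zero_or_one j with hj | hj <;>
      simp [hi, hj, hx]
  have d4 : (m ^^^ n) / 4 = (m / 4) ^^^ (n / 4) := by
    rw [show (4 : ℕ) = 2 * 2 from rfl, ← Nat.div_div_eq_div_mul, ← Nat.div_div_eq_div_mul,
      ← Nat.div_div_eq_div_mul, xor_div_two, xor_div_two]
  have u : ∀ x ∈ U, ∀ i : ℕ, (if i % 2 = 1 then x else 1) ∈ U := fun x hx i => by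
    split_ifs
    exacts [hx, one_mem _]
  have c : ∀ p ∈ U, ∀ p' ∈ U, ∀ q ∈ U, ∀ q' ∈ U, ∀ r ∈ U, ∀ r' ∈ U,
      p * p' * (q * q') * (r * r') = p * q * r * (p' * q' * r') := by
    intro p _ p' hp' q hq q' hq' r hr r' _
    calc p * p' * (q * q') * (r * r') = p * (p' * q) * (q' * r) * r' := by group
      _ = p * (q * p') * (r * q') * r' := by rw [h.comm_U hp' hq, h.comm_U hq' hr]
      _ = p * q * (p' * r) * q' * r' := by group
      _ = p * q * (r * p') * q' * r' := by rw [h.comm_U hp' hr]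
      _ = _ := by group
  unfold io
  rw [d4, xor_div_two, key x0 m n (h.sq_U _ m0), key x1 (m / 2) (n / 2) (h.sq_U _ m1),
    key x2 (m / 4) (n / 4) (h.sq_U _ m2)]
  exact c _ (u _ m0 _) _ (u _ m0 _) _ (u _ m1 _) _ (u _ m1 _) _ (u _ m2 _) _ (u _ m2 _)

/-- action on the numbers -/
theorem conj_io (F : Frame U W K x0 x1 x2 f t a b) (h : Plane z U W K L) {g : G} {c0 c1 c2 : ℕ}
    (h0 : g * x0 * g⁻¹ = io x0 x1 x2 c0) (h1 : g * x1 * g⁻¹ = io x0 x1 x2 c1)
    (h2 : g * x2 * g⁻¹ = io x0 x1 x2 c2) (n : ℕ) :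
    g * io x0 x1 x2 n * g⁻¹ = io x0 x1 x2 (dot [c0, c1, c2] n) := by
  have key : ∀ (x : G) (c i : ℕ), g * x * g⁻¹ = io x0 x1 x2 c →
      g * (if i % 2 = 1 then x else 1) * g⁻¹ = io x0 x1 x2 (if i % 2 = 1 then c else 0) := by
    intro x c i hx
    split_ifs
    · exact hx
    · rw [mul_one, mul_inv_cancel, io_zero]
  have d4 : n / 4 = n / 2 / 2 := by rw [Nat.div_div_eq_div_mul]
  simp only [dot]
  rw [F.io_xor h, F.io_xor h, F.io_xor h, io_zero, mul_one, ← key x0 c0 n h0, ← key x1 c1 (n / 2) h1,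
    ← key x2 c2 (n / 2 / 2) h2]
  unfold io
  rw [d4]
  group

theorem conj_f (F : Frame U W K x0 x1 x2 f t a b) (h : Plane z U W K L) (n : ℕ) :
    f * io x0 x1 x2 n * f⁻¹ = io x0 x1 x2 (FU n) :=
  F.conj_io h (by rw [F.f0, io_two]) (by rw [F.f1, io_four]) (by rw [F.f2, io_three]) n

theorem conj_h (F : Frame U W K x0 x1 x2 f t a b) (h : Plane z U W K L) (n : ℕ) :
    t * io x0 x1 x2 n * t⁻¹ = io x0 x1 x2 (HU n) :=
  F.conj_io h (by rw [F.h0, io_one]) (by rw [F.h1, io_four]) (by rw [F.h2, io_six]) n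

theorem io_surj (F : Frame U W K x0 x1 x2 f t a b) (h : Plane z U W K L) {u : G} (hu : u ∈ U) :
    ∃ n < 8, u = io x0 x1 x2 n := by
  rcases h.mem_cases F.ind hu with rfl | rfl | rfl | rfl | rfl | rfl | rfl | rfl
  exacts [⟨0, by norm_num, (io_zero _ _ _).symm⟩, ⟨1, by norm_num, (io_one _ _ _).symm⟩,
    ⟨2, by norm_num, (io_two _ _ _).symm⟩, ⟨3, by norm_num, (io_three _ _ _).symm⟩,
    ⟨4, by norm_num, (io_four _ _ _).symm⟩, ⟨5, by norm_num, (io_five _ _ _).symm⟩,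
    ⟨6, by norm_num, (io_six _ _ _).symm⟩, ⟨7, by norm_num, (io_seven _ _ _).symm⟩]

theorem io_ne (F : Frame U W K x0 x1 x2 f t a b) (h : Plane z U W K L) {n : ℕ} (hn : n < 8) (h0 : n ≠ 0) :
    io x0 x1 x2 n ≠ 1 := by
  have i := F.ind
  have hU := h.sq_U
  interval_cases n
  · exact absurd rfl h0
  · rw [io_one]; exact i.p_ne
  · rw [io_two]; exact i.q_ne
  · rw [io_three]
    exact fun e => i.pq (by have := Ind.sh hU i.p_mem e; rwa [mul_one] at this)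
  · rw [io_four]; exact i.w_ne
  · rw [io_five]
    exact fun e => i.pw (by have := Ind.sh hU i.p_mem e; rwa [mul_one] at this)
  · rw [io_six]
    exact fun e => i.qw (by have := Ind.sh hU i.q_mem e; rwa [mul_one] at this)
  · rw [io_seven]
    exact fun e => i.pqw (by have := Ind.sh hU (mul_mem i.p_mem i.q_mem) e; rwa [mul_one] at this)

theorem xor_lt {m n : ℕ} (hm : m < 8) (hn : n < 8) : m ^^^ n < 8 := Nat.xor_lt_two_pow (n := 3) hm hn

theorem io_inj (F : Frame U W K x0 x1 x2 f t a b) (h : Plane z U W K L) {m n : ℕ} (hm : m < 8) (hn : n < 8)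
    (e : io x0 x1 x2 m = io x0 x1 x2 n) : m = n := by
  by_contra hne
  have h1 : m ^^^ n ≠ 0 := fun e => hne (Nat.xor_eq_zero_iff.1 e)
  refine F.io_ne h (xor_lt hm hn) h1 ?_
  rw [F.io_xor h, e, h.sq_U _ (F.io_mem n)]

theorem io_eq_one (F : Frame U W K x0 x1 x2 f t a b) (h : Plane z U W K L) {m : ℕ} (hm : m < 8) :
    io x0 x1 x2 m = 1 ↔ m = 0 := by
  refine ⟨fun e => ?_, fun e => by rw [e, io_zero]⟩
  by_contra h0
  exact F.io_ne h hm h0 e

theorem ind_io (F : Frame U W K x0 x1 x2 f t a b) (h : Plane z U W K L) {m n k : ℕ} (c : IndN m n k) :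
    Ind U (io x0 x1 x2 m) (io x0 x1 x2 n) (io x0 x1 x2 k) := by
  obtain ⟨hm, hn, hk, m0, n0, k0, mn, mk, nk, mnk⟩ := c
  refine ⟨F.io_mem _, F.io_mem _, F.io_mem _, F.io_ne h hm m0, F.io_ne h hn n0,
    fun e => mn (F.io_inj h hm hn e), F.io_ne h hk k0, fun e => mk (F.io_inj h hm hk e),
    fun e => nk (F.io_inj h hn hk e), fun e => mnk (F.io_inj h (xor_lt hm hn) hk ?_)⟩
  rw [F.io_xor h, e]

theorem fl_conj (F : Frame U W K x0 x1 x2 f t a b) (h : Plane z U W K L) {p q g : G} (hg : Fl U W K p q g) :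
    Fl U W K (f * p * f⁻¹) (f * q * f⁻¹) (f * g * f⁻¹) := by
  refine ⟨?_, ?_, ?_⟩
  · rw [← h.cj_W]; exact conj_mem_cj hg.mem
  · intro h1
    apply hg.notMem
    have := F.nf.nU' _ h1
    have e : f⁻¹ * (f * g * f⁻¹) * f = g := by group
    rwa [e] at this
  · rw [← h.cj_K]; exact conj_mem_cj hg.memK

theorem FA1 (F : Frame U W K x0 x1 x2 f t a b) (h : Plane z U W K L) (j : ℕ) :
    Fl U W K (io x0 x1 x2 (X j)) (io x0 x1 x2 (X (j + 1))) (A f a j) := by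
  induction j with
  | zero =>
    rw [A_zero]
    change Fl U W K (io x0 x1 x2 1) (io x0 x1 x2 2) a
    rw [io_one, io_two]; exact F.fa
  | succ j ih =>
    have := F.fl_conj h ih
    rw [F.conj_f h, F.conj_f h, ← X_succ, ← X_succ, ← A_succ] at this
    exact this

theorem FB2 (F : Frame U W K x0 x1 x2 f t a b) (h : Plane z U W K L) (j : ℕ) :
    Fl U W K (io x0 x1 x2 (X j)) (io x0 x1 x2 (X (j + 2))) (A f b j) := by
  induction j with
  | zero =>
    rw [A_zero]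
    change Fl U W K (io x0 x1 x2 1) (io x0 x1 x2 4) b
    rw [io_one, io_four]; exact F.fb
  | succ j ih =>
    have := F.fl_conj h ih
    rw [F.conj_f h, F.conj_f h, ← X_succ, ← X_succ, ← A_succ] at this
    exact this

theorem FA3 (F : Frame U W K x0 x1 x2 f t a b) (h : Plane z U W K L) (j : ℕ) :
    Fl U W K (io x0 x1 x2 (X j)) (io x0 x1 x2 (X (j + 3))) (A f a j) := by
  induction j with
  | zero =>
    rw [A_zero]
    change Fl U W K (io x0 x1 x2 1) (io x0 x1 x2 3) a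
    rw [io_one, io_three]
    exact h.fl_mul _ F.ind.p_mem F.ind.p_ne _ F.ind.q_mem F.ind.q_ne F.ind.pq _ F.fa
  | succ j ih =>
    have := F.fl_conj h ih
    rw [F.conj_f h, F.conj_f h, ← X_succ, ← X_succ, ← A_succ] at this
    exact this

theorem FB6 (F : Frame U W K x0 x1 x2 f t a b) (h : Plane z U W K L) (j : ℕ) :
    Fl U W K (io x0 x1 x2 (X j)) (io x0 x1 x2 (X (j + 6))) (A f b j) := by
  induction j with
  | zero =>
    rw [A_zero]
    change Fl U W K (io x0 x1 x2 1) (io x0 x1 x2 5) b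
    rw [io_one, io_five]
    exact h.fl_mul _ F.ind.p_mem F.ind.p_ne _ F.ind.w_mem F.ind.w_ne F.ind.pw _ F.fb
  | succ j ih =>
    have := F.fl_conj h ih
    rw [F.conj_f h, F.conj_f h, ← X_succ, ← X_succ, ← A_succ] at this
    exact this

section Com

variable (F : Frame U W K x0 x1 x2 f t a b) (h : Plane z U W K L) {g g' : G}
include F h

theorem gen (p q w c : ℕ) (i : IndN p q w ∧ p ^^^ q ^^^ w = c)
    (hg : Fl U W K (io x0 x1 x2 p) (io x0 x1 x2 w) g)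
    (hg' : Fl U W K (io x0 x1 x2 q) (io x0 x1 x2 w) g') : g * g' = g' * g * io x0 x1 x2 c := by
  rw [h.com_gen (F.ind_io h i.1) hg hg', ← F.io_xor h, ← F.io_xor h, i.2]

theorem left (p q w : ℕ) (i : IndN p q w)
    (hg : Fl U W K (io x0 x1 x2 p) (io x0 x1 x2 q) g)
    (hg' : Fl U W K (io x0 x1 x2 q) (io x0 x1 x2 w) g') : g * g' = g' * g * io x0 x1 x2 q :=
  h.com_left (F.ind_io h i) hg hg'

theorem right (p q w : ℕ) (i : IndN p q w)
    (hg : Fl U W K (io x0 x1 x2 p) (io x0 x1 x2 w) g)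
    (hg' : Fl U W K (io x0 x1 x2 q) (io x0 x1 x2 p) g') : g * g' = g' * g * io x0 x1 x2 p :=
  h.com_right (F.ind_io h i) hg hg'

theorem same (p q : ℕ) (i : IndN p q (p ^^^ q ^^^ 1) ∨ IndN p q (p ^^^ q ^^^ 2) ∨ IndN p q (p ^^^ q ^^^ 4))
    (hg : Fl U W K (io x0 x1 x2 p) (io x0 x1 x2 q) g)
    (hg' : Fl U W K (io x0 x1 x2 q) (io x0 x1 x2 p) g') : g * g' = g' * g * io x0 x1 x2 0 := by
  rw [io_zero, mul_one]
  rcases i with i | i | i
  all_goals
    have j := F.ind_io h i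
    exact h.fl_comm _ j.p_mem j.p_ne _ j.q_mem j.q_ne j.pq _ _ hg hg'

theorem cA1A : A f a 0 * A f a 1 = A f a 1 * A f a 0 * io x0 x1 x2 2 :=
  F.left h 1 2 4 (by decide) (F.FA1 h 0) (F.FA1 h 1)

theorem cA1B : A f a 0 * A f b 1 = A f b 1 * A f a 0 * io x0 x1 x2 0 :=
  F.same h 1 2 (by decide) (F.FA1 h 0) (F.FB6 h 1)

theorem cA2A : A f a 0 * A f a 2 = A f a 2 * A f a 0 * io x0 x1 x2 6 :=
  F.gen h 1 4 3 6 (by decide) (F.FA3 h 0) (F.FA1 h 2)

theorem cA2B : A f a 0 * A f b 2 = A f b 2 * A f a 0 * io x0 x1 x2 7 :=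
  F.gen h 1 4 2 7 (by decide) (F.FA1 h 0) (F.FB6 h 2)

theorem cA3A : A f a 0 * A f a 3 = A f a 3 * A f a 0 * io x0 x1 x2 3 :=
  F.left h 1 3 6 (by decide) (F.FA3 h 0) (F.FA1 h 3)

theorem cA3B : A f a 0 * A f b 3 = A f b 3 * A f a 0 * io x0 x1 x2 3 :=
  F.left h 1 3 4 (by decide) (F.FA3 h 0) (F.FB6 h 3)

theorem cA4A : A f a 0 * A f a 4 = A f a 4 * A f a 0 * io x0 x1 x2 1 :=
  F.right h 1 6 2 (by decide) (F.FA1 h 0) (F.FA3 h 4)

theorem cA4B : A f a 0 * A f b 4 = A f b 4 * A f a 0 * io x0 x1 x2 4 :=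
  F.gen h 1 6 3 4 (by decide) (F.FA3 h 0) (F.FB6 h 4)

theorem cA5A : A f a 0 * A f a 5 = A f a 5 * A f a 0 * io x0 x1 x2 4 :=
  F.gen h 1 7 2 4 (by decide) (F.FA1 h 0) (F.FA3 h 5)

theorem cA5B : A f a 0 * A f b 5 = A f b 5 * A f a 0 * io x0 x1 x2 1 :=
  F.right h 1 7 2 (by decide) (F.FA1 h 0) (F.FB2 h 5)

theorem cA6A : A f a 0 * A f a 6 = A f a 6 * A f a 0 * io x0 x1 x2 1 :=
  F.right h 1 5 2 (by decide) (F.FA1 h 0) (F.FA1 h 6)

theorem cA6B : A f a 0 * A f b 6 = A f b 6 * A f a 0 * io x0 x1 x2 6 :=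
  F.gen h 1 5 2 6 (by decide) (F.FA1 h 0) (F.FB2 h 6)

theorem cB1A : A f b 0 * A f a 1 = A f a 1 * A f b 0 * io x0 x1 x2 7 :=
  F.gen h 1 2 4 7 (by decide) (F.FB2 h 0) (F.FA1 h 1)

theorem cB1B : A f b 0 * A f b 1 = A f b 1 * A f b 0 * io x0 x1 x2 1 :=
  F.right h 1 2 5 (by decide) (F.FB6 h 0) (F.FB6 h 1)

theorem cB2A : A f b 0 * A f a 2 = A f a 2 * A f b 0 * io x0 x1 x2 4 :=
  F.left h 1 4 3 (by decide) (F.FB2 h 0) (F.FA1 h 2)

theorem cB2B : A f b 0 * A f b 2 = A f b 2 * A f b 0 * io x0 x1 x2 4 :=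
  F.left h 1 4 2 (by decide) (F.FB2 h 0) (F.FB6 h 2)

theorem cB3A : A f b 0 * A f a 3 = A f a 3 * A f b 0 * io x0 x1 x2 7 :=
  F.gen h 1 3 5 7 (by decide) (F.FB6 h 0) (F.FA3 h 3)

theorem cB3B : A f b 0 * A f b 3 = A f b 3 * A f b 0 * io x0 x1 x2 6 :=
  F.gen h 1 3 4 6 (by decide) (F.FB2 h 0) (F.FB6 h 3)

theorem cB4A : A f b 0 * A f a 4 = A f a 4 * A f b 0 * io x0 x1 x2 1 :=
  F.right h 1 6 5 (by decide) (F.FB6 h 0) (F.FA3 h 4)

theorem cB4B : A f b 0 * A f b 4 = A f b 4 * A f b 0 * io x0 x1 x2 2 :=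
  F.gen h 1 6 5 2 (by decide) (F.FB6 h 0) (F.FB2 h 4)

theorem cB5A : A f b 0 * A f a 5 = A f a 5 * A f b 0 * io x0 x1 x2 3 :=
  F.gen h 1 7 5 3 (by decide) (F.FB6 h 0) (F.FA1 h 5)

theorem cB5B : A f b 0 * A f b 5 = A f b 5 * A f b 0 * io x0 x1 x2 1 :=
  F.right h 1 7 5 (by decide) (F.FB6 h 0) (F.FB2 h 5)

theorem cB6A : A f b 0 * A f a 6 = A f a 6 * A f b 0 * io x0 x1 x2 0 :=
  F.same h 1 5 (by decide) (F.FB6 h 0) (F.FA1 h 6)

theorem cB6B : A f b 0 * A f b 6 = A f b 6 * A f b 0 * io x0 x1 x2 5 :=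
  F.left h 1 5 7 (by decide) (F.FB6 h 0) (F.FB6 h 6)

end Com

end Frame

end Cfsg.Agent.Omega.NOThree.Ru

end

section


/-!
# The plane configuration: all the commutators

`Frame.tab` : `[E k, E l] = io (mm k l)`; `Frame.good` : the table is `Good` for each list of numbers `< 14`.
-/

set_option autoImplicit false

namespace Cfsg.Agent.Omega.NOThree.Ru

open Subgroup Cfsg Cfsg.Agent.MinSimple.Geo Code

variable {G : Type*} [Group G]

theorem E_two (f a b : G) (k : ℕ) : E f a b (k + 2) = f * E f a b k * f⁻¹ := by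
  have h1 : (k + 2) % 2 = k % 2 := by omega
  have h2 : (k + 2) / 2 = k / 2 + 1 := by omega
  unfold E
  rw [h1, h2]
  split_ifs
  · rw [A_succ]
  · rw [A_succ]

theorem E_fourteen {f a b : G} (hf : f ^ 7 = 1) (k : ℕ) : E f a b (k + 14) = E f a b k := by
  have h1 : (k + 14) % 2 = k % 2 := by omega
  have h2 : (k + 14) / 2 = k / 2 + 7 := by omega
  unfold E
  rw [h1, h2, A_seven hf, A_seven hf]

/-- the triangular table of a list of numbers -/
def Tof : List ℕ → List (List ℕ)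
  | [] => []
  | k :: ks => ks.map (mm k) :: Tof ks

namespace Frame

variable {z : G} {U : Subgroup G} {W K L : G → Subgroup G} {x0 x1 x2 f t a b : G}

theorem tab0 (F : Frame U W K x0 x1 x2 f t a b) (h : Plane z U W K L) :
    ∀ l < 14, E f a b 0 * E f a b l = E f a b l * E f a b 0 * io x0 x1 x2 (mm 0 l) := by
  have ab : A f a 0 * A f b 0 = A f b 0 * A f a 0 * io x0 x1 x2 0 := by
    rw [io_zero, mul_one, A_zero, A_zero]
    exact h.comm_W F.ind.p_mem F.ind.p_ne F.fa.mem F.fb.mem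
  have aa : A f a 0 * A f a 0 = A f a 0 * A f a 0 * io x0 x1 x2 0 := by rw [io_zero, mul_one]
  intro l hl
  interval_cases l
  exacts [aa, ab, F.cA1A h, F.cA1B h, F.cA2A h, F.cA2B h, F.cA3A h, F.cA3B h, F.cA4A h, F.cA4B h, F.cA5A h,
    F.cA5B h, F.cA6A h, F.cA6B h]

theorem tab1 (F : Frame U W K x0 x1 x2 f t a b) (h : Plane z U W K L) :
    ∀ l < 14, E f a b 1 * E f a b l = E f a b l * E f a b 1 * io x0 x1 x2 (mm 1 l) := by
  have ba : A f b 0 * A f a 0 = A f a 0 * A f b 0 * io x0 x1 x2 0 := by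
    rw [io_zero, mul_one, A_zero, A_zero]
    exact h.comm_W F.ind.p_mem F.ind.p_ne F.fb.mem F.fa.mem
  have bb : A f b 0 * A f b 0 = A f b 0 * A f b 0 * io x0 x1 x2 0 := by rw [io_zero, mul_one]
  intro l hl
  interval_cases l
  exacts [ba, bb, F.cB1A h, F.cB1B h, F.cB2A h, F.cB2B h, F.cB3A h, F.cB3B h, F.cB4A h, F.cB4B h, F.cB5A h,
    F.cB5B h, F.cB6A h, F.cB6B h]

theorem tab (F : Frame U W K x0 x1 x2 f t a b) (h : Plane z U W K L) :
    ∀ k < 14, ∀ l < 14, E f a b k * E f a b l = E f a b l * E f a b k * io x0 x1 x2 (mm k l)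
  | 0, _ => F.tab0 h
  | 1, _ => F.tab1 h
  | k + 2, hk => by
    have ih := F.tab h k (by omega)
    have st : ∀ l, ∀ c, E f a b k * E f a b l = E f a b l * E f a b k * io x0 x1 x2 c →
        E f a b (k + 2) * E f a b (l + 2) = E f a b (l + 2) * E f a b (k + 2) * io x0 x1 x2 (FU c) := by
      intro l c e
      rw [E_two, E_two, ← F.conj_f h]
      calc f * E f a b k * f⁻¹ * (f * E f a b l * f⁻¹) = f * (E f a b k * E f a b l) * f⁻¹ := by group
        _ = _ := by rw [e]; group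
    intro l hl
    rcases Nat.lt_or_ge l 2 with h2 | h2
    · have e := st (l + 12) _ (ih (l + 12) (by omega))
      rw [show l + 12 + 2 = l + 14 from rfl, E_fourteen F.f7] at e
      rw [FU_mm' k (by omega) l h2]
      exact e
    · obtain ⟨m, rfl⟩ : ∃ m, l = m + 2 := ⟨l - 2, by omega⟩
      rw [FU_mm k (by omega) m (by omega)]
      exact st m _ (ih m (by omega))

theorem E_sq (F : Frame U W K x0 x1 x2 f t a b) (h : Plane z U W K L) (k : ℕ) : E f a b k * E f a b k = 1 := by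
  have key : ∀ (c : G) (i : ℕ), c * c = 1 → A f c i * A f c i = 1 := by
    intro c i hc
    unfold A
    calc f ^ i * c * (f ^ i)⁻¹ * (f ^ i * c * (f ^ i)⁻¹) = f ^ i * (c * c) * (f ^ i)⁻¹ := by group
      _ = 1 := by rw [hc]; group
  unfold E
  split_ifs
  · exact key _ _ (h.sq_W _ F.ind.p_mem F.ind.p_ne _ F.fa.mem)
  · exact key _ _ (h.sq_W _ F.ind.p_mem F.ind.p_ne _ F.fb.mem)

theorem X_lt (j : ℕ) : X j < 8 ∧ X j ≠ 0 := by
  have h1 : ∀ r < 7, X r < 8 ∧ X r ≠ 0 := by decide +kernel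
  have h2 := h1 (j % 7) (Nat.mod_lt _ (by norm_num))
  have e2 : X (j % 7) = X j := by
    unfold X; rw [Nat.mod_mod]
  rwa [e2] at h2

theorem A_mem (F : Frame U W K x0 x1 x2 f t a b) (h : Plane z U W K L) (j : ℕ) :
    A f a j ∈ W (io x0 x1 x2 (X j)) := (F.FA1 h j).mem

theorem B_mem (F : Frame U W K x0 x1 x2 f t a b) (h : Plane z U W K L) (j : ℕ) :
    A f b j ∈ W (io x0 x1 x2 (X j)) := (F.FB2 h j).mem

theorem pt (F : Frame U W K x0 x1 x2 f t a b) (h : Plane z U W K L) (j : ℕ) :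
    io x0 x1 x2 (X j) ≠ 1 := F.io_ne h (X_lt j).1 (X_lt j).2

theorem E_Y (F : Frame U W K x0 x1 x2 f t a b) (h : Plane z U W K L) (k : ℕ) : E f a b k ∈ YU U W := by
  unfold E
  split_ifs
  · exact h.W_le_Y (F.io_mem _) (F.pt h _) (F.A_mem h _)
  · exact h.W_le_Y (F.io_mem _) (F.pt h _) (F.B_mem h _)

theorem good (F : Frame U W K x0 x1 x2 f t a b) (h : Plane z U W K L) :
    ∀ ks : List ℕ, (∀ k ∈ ks, k < 14) → Good (io x0 x1 x2) (ks.map (E f a b)) (Tof ks)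
  | [], _ => trivial
  | k :: ks, hk => by
    refine ⟨⟨F.E_sq h k, fun n => h.Y_comm (F.E_Y h k) (F.io_mem n), ?_⟩,
      F.good h ks fun l hl => hk l (List.mem_cons_of_mem _ hl)⟩
    have h1 : ∀ ls : List ℕ, (∀ l ∈ ls, l < 14) → Row (io x0 x1 x2) (E f a b k) (ls.map (E f a b)) (ls.map (mm k)) := by
      intro ls
      induction ls with
      | nil => exact fun _ => trivial
      | cons l ls ih =>
        intro hl
        exact ⟨F.tab h k (hk k (List.mem_cons_self ..)) l (hl l (List.mem_cons_self ..)),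
          ih fun m hm => hl m (List.mem_cons_of_mem _ hm)⟩
    exact h1 ks fun l hl => hk l (List.mem_cons_of_mem _ hl)

/-- every `u ∈ U#` is one of the seven points -/
theorem exists_X (F : Frame U W K x0 x1 x2 f t a b) (h : Plane z U W K L) {u : G} (hu : u ∈ U) (h1 : u ≠ 1) :
    ∃ j < 7, u = io x0 x1 x2 (X j) := by
  obtain ⟨n, hn, rfl⟩ := F.io_surj h hu
  have h0 : n ≠ 0 := fun e => h1 (by rw [e, io_zero])
  have : ∀ n < 8, n ≠ 0 → ∃ j < 7, n = X j := by decide +kernel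
  obtain ⟨j, hj, e⟩ := this n hn h0
  exact ⟨j, hj, by rw [← e]⟩

end Frame

end Cfsg.Agent.Omega.NOThree.Ru

end

section


/-!
# Norms of elements modulo a subgroup

`Nm f n c = c (f c f⁻¹) ⋯ (f ^ (n - 1) c f ^ -(n - 1))`; `exists_fixed`: fixed points of `f` (order 7) and `t`
(order 3) in a coset.
-/

set_option autoImplicit false

namespace Cfsg.Agent.Omega.NOThree.Ru.Norm

variable {G : Type*} [Group G]

/-- the norm -/
def Nm (f : G) : ℕ → G → G
  | 0, _ => 1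
  | n + 1, c => Nm f n c * (f ^ n * c * (f ^ n)⁻¹)

theorem Nm_conj (f : G) (n : ℕ) (c : G) : f * Nm f n c * f⁻¹ = c⁻¹ * Nm f (n + 1) c := by
  induction n with
  | zero => simp [Nm]
  | succ n ih =>
    have e : f * Nm f (n + 1) c * f⁻¹ = f * Nm f n c * f⁻¹ * (f ^ (n + 1) * c * (f ^ (n + 1))⁻¹) := by
      simp only [Nm, pow_succ']
      group
    rw [e, ih]
    rw [show Nm f (n + 1 + 1) c = Nm f (n + 1) c * (f ^ (n + 1) * c * (f ^ (n + 1))⁻¹) from rfl, mul_assoc]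

theorem pow_conj_mem {S : Subgroup G} {f : G} (hS : ∀ s ∈ S, f * s * f⁻¹ ∈ S) (n : ℕ) {s : G} (hs : s ∈ S) :
    f ^ n * s * (f ^ n)⁻¹ ∈ S := by
  induction n with
  | zero => simpa using hs
  | succ n ih =>
    have e : f ^ (n + 1) * s * (f ^ (n + 1))⁻¹ = f * (f ^ n * s * (f ^ n)⁻¹) * f⁻¹ := by
      rw [pow_succ']; group
    rw [e]; exact hS _ ih

theorem Nm_mem {S : Subgroup G} {f : G} (hS : ∀ s ∈ S, f * s * f⁻¹ ∈ S) (n : ℕ) {c : G} (hc : c ∈ S) :
    Nm f n c ∈ S := by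
  induction n with
  | zero => exact one_mem _
  | succ n ih => exact mul_mem ih (pow_conj_mem hS n hc)

/-- `f ^ n c f ^ -n ≡ c` -/
theorem pow_conj_mod {T : Subgroup G} {f c : G} (hT : ∀ t ∈ T, f * t * f⁻¹ ∈ T)
    (hc : f * c * f⁻¹ * c⁻¹ ∈ T) (n : ℕ) : f ^ n * c * (f ^ n)⁻¹ * c⁻¹ ∈ T := by
  induction n with
  | zero => simp [one_mem]
  | succ n ih =>
    have e : f ^ (n + 1) * c * (f ^ (n + 1))⁻¹ * c⁻¹ =
        f * (f ^ n * c * (f ^ n)⁻¹ * c⁻¹) * f⁻¹ * (f * c * f⁻¹ * c⁻¹) := by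
      rw [pow_succ']; group
    rw [e]; exact mul_mem (hT _ ih) hc

/-- `Nm f n c ≡ c ^ n` -/
theorem Nm_mod {T : Subgroup G} {f c : G} (hT : ∀ t ∈ T, f * t * f⁻¹ ∈ T) (hcT : ∀ t ∈ T, c * t * c⁻¹ ∈ T)
    (hc : f * c * f⁻¹ * c⁻¹ ∈ T) (n : ℕ) : Nm f n c * (c ^ n)⁻¹ ∈ T := by
  induction n with
  | zero => simp [Nm, one_mem]
  | succ n ih =>
    have e : Nm f (n + 1) c * (c ^ (n + 1))⁻¹ =
        Nm f n c * (c ^ n)⁻¹ * (c ^ n * (f ^ n * c * (f ^ n)⁻¹ * c⁻¹) * (c ^ n)⁻¹) := by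
      simp only [Nm, pow_succ']
      have e2 : (c * c ^ n)⁻¹ = c⁻¹ * (c ^ n)⁻¹ := by
        rw [← pow_succ', pow_succ, mul_inv_rev]
      rw [e2]; group
    rw [e]; exact mul_mem ih (pow_conj_mem hcT n (pow_conj_mod hT hc n))

/-- fixed points of `f` and `t` modulo `M` in a coset of `T` -/
theorem exists_fixed {S M T : Subgroup G} {f t : G}
    (Sf : ∀ s ∈ S, f * s * f⁻¹ ∈ S) (St : ∀ s ∈ S, t * s * t⁻¹ ∈ S)
    (MS : ∀ s ∈ S, ∀ m ∈ M, s * m * s⁻¹ ∈ M)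
    (Tf : ∀ s ∈ T, f * s * f⁻¹ ∈ T) (Tt : ∀ s ∈ T, t * s * t⁻¹ ∈ T) (TS : ∀ s ∈ S, ∀ m ∈ T, s * m * s⁻¹ ∈ T)
    (ab : ∀ s ∈ S, ∀ s' ∈ S, s * s' * s⁻¹ * s'⁻¹ ∈ M) (sq : ∀ s ∈ S, s * s ∈ M)
    (ft : ∀ s ∈ S, f * s * f⁻¹ * s⁻¹ ∈ T) (tt : ∀ s ∈ S, t * s * t⁻¹ * s⁻¹ ∈ T)
    (f7 : f ^ 7 = 1) (t3 : ∀ s ∈ S, t ^ 3 * s * (t ^ 3)⁻¹ * s⁻¹ ∈ M)
    (tf : ∀ s ∈ S, f * s * f⁻¹ * s⁻¹ ∈ M → f * (t * s * t⁻¹) * f⁻¹ * (t * s * t⁻¹)⁻¹ ∈ M)
    {c : G} (hc : c ∈ S) : ∃ c₂ ∈ S, (∃ s ∈ T, ∃ m ∈ M, c₂ = s * c * m) ∧ f * c₂ * f⁻¹ * c₂⁻¹ ∈ M ∧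
      t * c₂ * t⁻¹ * c₂⁻¹ ∈ M := by
  -- the norm of `f`
  set c₁ := Nm f 7 c with hc₁
  have c₁S : c₁ ∈ S := Nm_mem Sf 7 hc
  have h1 : f * c₁ * f⁻¹ * c₁⁻¹ ∈ M := by
    have e : Nm f (7 + 1) c = c₁ * c := by
      rw [show Nm f (7 + 1) c = Nm f 7 c * (f ^ 7 * c * (f ^ 7)⁻¹) from rfl, f7]
      group
      rw [hc₁]
    rw [hc₁, Nm_conj, e, ← hc₁]
    have e2 : c⁻¹ * (c₁ * c) * c₁⁻¹ = c⁻¹ * c₁ * c⁻¹⁻¹ * c₁⁻¹ := by group
    rw [e2]
    exact ab _ (inv_mem hc) _ c₁S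
  have h2 : c₁ * (c ^ 7)⁻¹ ∈ T := Nm_mod Tf (TS c hc) (ft c hc) 7
  have h3 : c₁ = (c₁ * (c ^ 7)⁻¹) * c * ((c * c) * (c * c) * (c * c)) := by
    have : c ^ 7 = c * ((c * c) * (c * c) * (c * c)) := by simp only [pow_succ, pow_zero, one_mul, mul_assoc]
    calc c₁ = c₁ * (c ^ 7)⁻¹ * c ^ 7 := by group
      _ = _ := by rw [this]; group
  have h3' : (c * c) * (c * c) * (c * c) ∈ M := mul_mem (mul_mem (sq c hc) (sq c hc)) (sq c hc)
  -- the norm of `t`
  set c₂ := Nm t 3 c₁ with hc₂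
  have c₂S : c₂ ∈ S := Nm_mem St 3 c₁S
  have k1 : t * c₂ * t⁻¹ * c₂⁻¹ ∈ M := by
    have e : Nm t (3 + 1) c₁ = c₂ * (t ^ 3 * c₁ * (t ^ 3)⁻¹) := rfl
    rw [hc₂, Nm_conj, e, ← hc₂]
    have e2 : c₁⁻¹ * (c₂ * (t ^ 3 * c₁ * (t ^ 3)⁻¹)) * c₂⁻¹ =
        (c₁⁻¹ * c₂ * c₁⁻¹⁻¹ * c₂⁻¹) * (c₂ * (c₁⁻¹ * (t ^ 3 * c₁ * (t ^ 3)⁻¹ * c₁⁻¹) * c₁⁻¹⁻¹) * c₂⁻¹) := by
      group
    rw [e2]
    exact mul_mem (ab _ (inv_mem c₁S) _ c₂S) (MS _ c₂S _ (MS _ (inv_mem c₁S) _ (t3 _ c₁S)))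
  have k2 : c₂ * (c₁ ^ 3)⁻¹ ∈ T := Nm_mod Tt (TS c₁ c₁S) (tt c₁ c₁S) 3
  have k3 : c₂ = (c₂ * (c₁ ^ 3)⁻¹) * c₁ * (c₁ * c₁) := by
    have : c₁ ^ 3 = c₁ * (c₁ * c₁) := by simp only [pow_succ, pow_zero, one_mul, mul_assoc]
    calc c₂ = c₂ * (c₁ ^ 3)⁻¹ * c₁ ^ 3 := by group
      _ = _ := by rw [this]; group
  -- `f` fixes `c₂`
  have fm : ∀ s s' : G, s ∈ S → f * s * f⁻¹ * s⁻¹ ∈ M → f * s' * f⁻¹ * s'⁻¹ ∈ M →
      f * (s * s') * f⁻¹ * (s * s')⁻¹ ∈ M := by
    intro s s' hs e1 e2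
    have e : f * (s * s') * f⁻¹ * (s * s')⁻¹ = (f * s * f⁻¹ * s⁻¹) * (s * (f * s' * f⁻¹ * s'⁻¹) * s⁻¹) := by group
    rw [e]; exact mul_mem e1 (MS s hs _ e2)
  have tn : ∀ n, f * (t ^ n * c₁ * (t ^ n)⁻¹) * f⁻¹ * (t ^ n * c₁ * (t ^ n)⁻¹)⁻¹ ∈ M := by
    intro n
    induction n with
    | zero => simpa using h1
    | succ n ih =>
      have := tf _ (pow_conj_mem St n c₁S) ih
      have e : t * (t ^ n * c₁ * (t ^ n)⁻¹) * t⁻¹ = t ^ (n + 1) * c₁ * (t ^ (n + 1))⁻¹ := by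
        rw [pow_succ']; group
      rwa [e] at this
  have fN : ∀ n, f * Nm t n c₁ * f⁻¹ * (Nm t n c₁)⁻¹ ∈ M := by
    intro n
    induction n with
    | zero => simp [Nm, one_mem]
    | succ n ih => exact fm _ _ (Nm_mem St n c₁S) ih (tn n)
  refine ⟨c₂, c₂S, ⟨(c₂ * (c₁ ^ 3)⁻¹) * (c₁ * (c ^ 7)⁻¹), mul_mem k2 h2,
    ((c * c) * (c * c) * (c * c)) * (c₁ * c₁), mul_mem h3' (sq _ c₁S), ?_⟩, fN 3, k1⟩
  calc c₂ = (c₂ * (c₁ ^ 3)⁻¹) * c₁ * (c₁ * c₁) := k3
    _ = (c₂ * (c₁ ^ 3)⁻¹) * ((c₁ * (c ^ 7)⁻¹) * c * ((c * c) * (c * c) * (c * c))) * (c₁ * c₁) := by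
        rw [← h3]
    _ = _ := by group

end Cfsg.Agent.Omega.NOThree.Ru.Norm

end

section


/-!
# The plane configuration: codes for the elements of `Y`

* `Frame.W_gen` : `W x = {1, a, b, ab} U`;
* `Frame.code14` : codes with respect to the 14 generators;
* `Frame.Y_inf_D` : `Y ∩ C(Y) = U`;
* `Frame.code8` : codes with respect to the basis `E k`, `k = 0, .., 6, 8`.
-/

set_option autoImplicit false

namespace Cfsg.Agent.Omega.NOThree.Ru

open Subgroup Cfsg Cfsg.Agent.MinSimple.Geo Code Cfsg.Agent.Omega.NOThree.Ru.Norm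

variable {G : Type*} [Group G]

/-- the 14 generators -/
def g14 (f a b : G) : List G := (List.range 14).map (E f a b)

/-- their table -/
def T14 : List (List ℕ) := Tof (List.range 14)

/-- the numbers of the basis -/
def ks8 : List ℕ := [0, 1, 2, 3, 4, 5, 6, 8]

/-- the basis -/
def g8 (f a b : G) : List G := ks8.map (E f a b)

/-- their table -/
def T8 : List (List ℕ) :=
  [[0, 2, 0, 6, 7, 3, 1], [7, 1, 4, 4, 7, 1], [0, 4, 0, 7, 6], [5, 2, 3, 5], [0, 3, 5], [1, 6], [6], []]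

theorem T8_eq : Tof ks8 = T8 := by decide

/-- the generators in the basis -/
def R8 : List ℕ := [1, 2, 4, 8, 16, 32, 64, 73, 128, 164, 218, 131, 50, 214]

theorem elt_pow (gs : List G) (k : ℕ) : elt gs (2 ^ k) = gs.getD k 1 := by
  induction gs generalizing k with
  | nil => simp [elt]
  | cons g gs ih =>
    cases k with
    | zero => rw [pow_zero, elt_cons_odd g gs (by norm_num)]; simp [elt_zero]
    | succ k =>
      rw [elt_cons_even g gs (by rw [pow_succ]; omega), pow_succ, Nat.mul_div_cancel _ (by norm_num), ih]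
      simp

/-- the rotations -/
def Rp (i : ℕ) : List ℕ := (List.range 14).map fun k => 2 ^ ((k + 2 * i) % 14)

/-- the partial norms -/
def NL : ℕ → List ℕ
  | 0 => List.replicate 14 0
  | j + 1 => List.zipWith (· ^^^ ·) (NL j) (Rp j)

theorem NL_length (j : ℕ) : (NL j).length = 14 := by
  induction j with
  | zero => simp [NL]
  | succ j ih => simp [NL, ih, Rp]

theorem NL_seven : NL 7 = [5461, 10922, 5461, 10922, 5461, 10922, 5461, 10922, 5461, 10922, 5461, 10922, 5461,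
    10922] := by decide

theorem dot_rep (k n : ℕ) : dot (List.replicate k 0) n = 0 := by
  induction k generalizing n with
  | zero => simp [dot]
  | succ k ih => simp [List.replicate_succ, dot, ih]

namespace Frame

variable {z : G} {U : Subgroup G} {W K L : G → Subgroup G} {x0 x1 x2 f t a b : G}

theorem W_gen0 (F : Frame U W K x0 x1 x2 f t a b) (h : Plane z U W K L) {w : G} (hw : w ∈ W x0) :
    ∃ u ∈ U, w = u ∨ w = a * u ∨ w = b * u ∨ w = a * b * u := by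
  have i := F.ind
  have hU := h.sq_U
  have key : ∀ g ∈ W x0, g ∈ K x1 → g ∈ K x2 → g ∈ U := by
    intro g hg h1 h2
    by_contra hgU
    exact h.fl_notMem (i.swap hU) ⟨hg, hgU, h2⟩ h1
  have a2 : a ∉ K x2 := by
    have j : Ind U x2 x0 x1 := (i.rot hU).rot hU
    exact h.fl_notMem j F.fa
  have b1 : b ∉ K x1 := h.fl_notMem (i.swap hU) F.fb
  have ha := F.fa.mem
  have hb := F.fb.mem
  have aa : a * a = 1 := h.sq_W _ i.p_mem i.p_ne _ ha
  have bb : b * b = 1 := h.sq_W _ i.p_mem i.p_ne _ hb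
  have c : ∀ {u v : G}, u ∈ W x0 → v ∈ W x0 → u * v = v * u := fun hu hv => h.comm_W i.p_mem i.p_ne hu hv
  have idx1 := h.fl_index _ i.p_mem i.p_ne _ i.q_mem i.q_ne i.pq
  have idx2 := h.fl_index _ i.p_mem i.p_ne _ i.w_mem i.w_ne i.pw
  by_cases h1 : w ∈ K x1 <;> by_cases h2 : w ∈ K x2
  · exact ⟨w, key w hw h1 h2, Or.inl rfl⟩
  · refine ⟨w * a, key _ (mul_mem hw ha) (mul_mem h1 F.fa.memK) (idx2 _ hw _ ha h2 a2), Or.inr (Or.inl ?_)⟩
    rw [c hw ha, ← mul_assoc, aa, one_mul]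
  · refine ⟨w * b, key _ (mul_mem hw hb) (idx1 _ hw _ hb h1 b1) (mul_mem h2 F.fb.memK),
      Or.inr (Or.inr (Or.inl ?_))⟩
    rw [c hw hb, ← mul_assoc, bb, one_mul]
  · refine ⟨w * b * a, key _ (mul_mem (mul_mem hw hb) ha) (mul_mem (idx1 _ hw _ hb h1 b1) F.fa.memK) ?_,
      Or.inr (Or.inr (Or.inr ?_))⟩
    · rw [mul_assoc, c hb ha, ← mul_assoc]
      exact mul_mem (idx2 _ hw _ ha h2 a2) F.fb.memK
    · rw [c (mul_mem hw hb) ha, c hw hb]
      calc w = a * a * w := by rw [aa, one_mul]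
        _ = a * (b * b) * (a * w) := by rw [bb, mul_one, mul_assoc]
        _ = a * b * (b * a) * w := by group
        _ = a * b * (a * b) * w := by rw [c hb ha]
        _ = _ := by group

theorem conj_pow_X (F : Frame U W K x0 x1 x2 f t a b) (h : Plane z U W K L) (j : ℕ) :
    f ^ j * x0 * (f ^ j)⁻¹ = io x0 x1 x2 (X j) := by
  induction j with
  | zero => simp [X, io]
  | succ j ih =>
    rw [X_succ, ← F.conj_f h, ← ih, pow_succ']
    group

/-- `W x = {1, a, b, ab} U` -/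
theorem W_gen (F : Frame U W K x0 x1 x2 f t a b) (h : Plane z U W K L) (j : ℕ) {w : G}
    (hw : w ∈ W (io x0 x1 x2 (X j))) :
    ∃ u ∈ U, w = u ∨ w = A f a j * u ∨ w = A f b j * u ∨ w = A f a j * A f b j * u := by
  have h1 : (f ^ j)⁻¹ * w * f ^ j ∈ W x0 := by
    have := conj_mem_cj (g := (f ^ j)⁻¹) hw
    rw [h.cj_W, ← F.conj_pow_X h j, inv_inv] at this
    have e : (f ^ j)⁻¹ * (f ^ j * x0 * (f ^ j)⁻¹) * f ^ j = x0 := by group
    rwa [e] at this
  obtain ⟨u, hu, h2⟩ := F.W_gen0 h h1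
  have h3 : f ^ j * u * (f ^ j)⁻¹ ∈ U := (h.nice_pow F.nf j).nU u hu
  have h4 : w = f ^ j * ((f ^ j)⁻¹ * w * f ^ j) * (f ^ j)⁻¹ := by group
  refine ⟨_, h3, ?_⟩
  rcases h2 with h2 | h2 | h2 | h2
  · left; rw [h4, h2]
  · right; left; rw [h4, h2]; unfold A; group
  · right; right; left; rw [h4, h2]; unfold A; group
  · right; right; right; rw [h4, h2]; unfold A; group

theorem good14 (F : Frame U W K x0 x1 x2 f t a b) (h : Plane z U W K L) : Good (io x0 x1 x2) (g14 f a b) T14 :=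
  F.good h _ fun k hk => by simpa using hk

theorem good8 (F : Frame U W K x0 x1 x2 f t a b) (h : Plane z U W K L) : Good (io x0 x1 x2) (g8 f a b) T8 := by
  rw [← T8_eq]
  exact F.good h _ (by decide)

theorem E_even (f a b : G) (j : ℕ) : E f a b (2 * j) = A f a j := by
  have h1 : 2 * j % 2 = 0 := by omega
  have h2 : 2 * j / 2 = j := by omega
  unfold E
  rw [h1, h2, if_pos rfl]

theorem E_odd (f a b : G) (j : ℕ) : E f a b (2 * j + 1) = A f b j := by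
  have h1 : (2 * j + 1) % 2 = 1 := by omega
  have h2 : (2 * j + 1) / 2 = j := by omega
  unfold E
  rw [h1, h2, if_neg (by norm_num)]

theorem E_mod (F : Frame U W K x0 x1 x2 f t a b) (k : ℕ) : E f a b (k % 14) = E f a b k := by
  have key : ∀ q r : ℕ, E f a b (r + 14 * q) = E f a b r := by
    intro q r
    induction q with
    | zero => rfl
    | succ q ih => rw [show r + 14 * (q + 1) = r + 14 * q + 14 by ring, E_fourteen F.f7, ih]
  conv_rhs => rw [← Nat.mod_add_div k 14]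
  rw [key]

theorem E_cd (F : Frame U W K x0 x1 x2 f t a b) (h : Plane z U W K L) {k : ℕ} (hk : k < 14) :
    Cd (io x0 x1 x2) (g14 f a b) (E f a b k) (2 ^ k) := by
  have e := elt_pow (g14 f a b) k
  have e2 : (g14 f a b).getD k 1 = E f a b k := by
    unfold g14
    interval_cases k <;> rfl
  rw [e2] at e
  rw [← e]
  exact Cd.elt (F.io_xor h) _

theorem U_cd (F : Frame U W K x0 x1 x2 f t a b) (h : Plane z U W K L) {gs : List G} {u : G} (hu : u ∈ U) :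
    Cd (io x0 x1 x2) gs u 0 := by
  obtain ⟨n, -, rfl⟩ := F.io_surj h hu
  exact Cd.iota n

theorem code14 (F : Frame U W K x0 x1 x2 f t a b) (h : Plane z U W K L) {y : G} (hy : y ∈ YU U W) :
    ∃ n, Cd (io x0 x1 x2) (g14 f a b) y n := by
  have hx := F.io_xor h
  have hT := F.good14 h
  induction hy using closure_induction with
  | mem w hw =>
    obtain ⟨p, hp, hp1, hw⟩ := hw
    obtain ⟨j, hj, rfl⟩ := F.exists_X h hp hp1
    obtain ⟨u, hu, e⟩ := F.W_gen h j hw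
    have cu : Cd (io x0 x1 x2) (g14 f a b) u 0 := F.U_cd h hu
    have ca : Cd (io x0 x1 x2) (g14 f a b) (A f a j) (2 ^ (2 * j)) := by
      rw [← E_even f a b]; exact F.E_cd h (by omega)
    have cb : Cd (io x0 x1 x2) (g14 f a b) (A f b j) (2 ^ (2 * j + 1)) := by
      rw [← E_odd f a b]; exact F.E_cd h (by omega)
    rcases e with rfl | rfl | rfl | rfl
    · exact ⟨_, cu⟩
    · exact ⟨_, ca.mul hx hT cu⟩
    · exact ⟨_, cb.mul hx hT cu⟩
    · exact ⟨_, (ca.mul hx hT cb).mul hx hT cu⟩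
  | one => exact ⟨0, Cd.one hx⟩
  | mul a b _ _ iha ihb =>
    obtain ⟨n, hn⟩ := iha
    obtain ⟨m, hm⟩ := ihb
    exact ⟨_, hn.mul hx hT hm⟩
  | inv a _ ih =>
    obtain ⟨n, hn⟩ := ih
    exact ⟨n, hn.inv hx hT⟩

/-- an element of `Y` which commutes with the generators lies in `C(Y)` -/
theorem mem_D_of (F : Frame U W K x0 x1 x2 f t a b) (h : Plane z U W K L) {c : G}
    (hU : ∀ u ∈ U, c * u = u * c) (hc : ∀ k < 14, c * E f a b k = E f a b k * c) :
    c ∈ centralizer (YU U W : Set G) := by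
  rw [Plane.mem_D_iff]
  intro p hp hp1 w hw
  obtain ⟨j, hj, rfl⟩ := F.exists_X h hp hp1
  obtain ⟨u, hu, e⟩ := F.W_gen h j hw
  have c0 := hU u hu
  have c1 : c * A f a j = A f a j * c := by
    rw [← E_even f a b]; exact hc _ (by omega)
  have c2 : c * A f b j = A f b j * c := by
    rw [← E_odd f a b]; exact hc _ (by omega)
  have m : ∀ {x y : G}, c * x = x * c → c * y = y * c → c * (x * y) = x * y * c := by
    intro x y e1 e2
    rw [← mul_assoc, e1, mul_assoc, e2, mul_assoc]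
  rcases e with rfl | rfl | rfl | rfl
  exacts [c0, m c1 c0, m c2 c0, m (m c1 c2) c0]

theorem Rp_conj (F : Frame U W K x0 x1 x2 f t a b) (h : Plane z U W K L) (i : ℕ) :
    List.Forall₂ (fun x r => Cd (io x0 x1 x2) (g14 f a b) (f ^ i * x * (f ^ i)⁻¹) r) (g14 f a b) (Rp i) := by
  unfold g14 Rp
  rw [List.forall₂_map_left_iff, List.forall₂_map_right_iff, List.forall₂_same]
  intro k _
  have e : ∀ i, f ^ i * E f a b k * (f ^ i)⁻¹ = E f a b (k + 2 * i) := by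
    intro i
    induction i with
    | zero => simp
    | succ i ih =>
      rw [show k + 2 * (i + 1) = k + 2 * i + 2 by ring, E_two, ← ih, pow_succ']
      group
  rw [e, ← F.E_mod]
  exact F.E_cd h (Nat.mod_lt _ (by norm_num))

theorem conj_pow_io (F : Frame U W K x0 x1 x2 f t a b) (h : Plane z U W K L) (i m : ℕ) :
    ∃ m', f ^ i * io x0 x1 x2 m * (f ^ i)⁻¹ = io x0 x1 x2 m' := by
  obtain ⟨n, -, e⟩ := F.io_surj h ((h.nice_pow F.nf i).nU _ (F.io_mem m))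
  exact ⟨n, e⟩

theorem norm_cd (F : Frame U W K x0 x1 x2 f t a b) (h : Plane z U W K L) {y : G} {n : ℕ}
    (hy : Cd (io x0 x1 x2) (g14 f a b) y n) (j : ℕ) :
    Cd (io x0 x1 x2) (g14 f a b) (Nm f j y) (dot (NL j) n) := by
  have hx := F.io_xor h
  have hT := F.good14 h
  induction j with
  | zero =>
    have : dot (NL 0) n = 0 := dot_rep _ _
    rw [this]; exact Cd.one hx
  | succ j ih =>
    have e : dot (NL (j + 1)) n = dot (NL j) n ^^^ dot (Rp j) n := by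
      rw [dot_zip _ _ (by rw [NL_length]; simp [Rp])]
      rfl
    rw [e]
    exact ih.mul hx hT (hy.conj hx hT (F.Rp_conj h j) (F.conj_pow_io h j))

theorem Bf_lt {T : List (List ℕ)} (hT : ∀ r ∈ T, ∀ c ∈ r, c < 8) (m n : ℕ) : Bf T m n < 8 := by
  induction T generalizing m n with
  | nil => simp [Bf]
  | cons r T ih =>
    have h1 : ∀ n, dot r n < 8 := fun n => dot_closed (· < 8) (by norm_num) (fun a b ha hb => xor_lt ha hb) r
      (hT r (List.mem_cons_self ..)) n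
    simp only [Bf]
    refine xor_lt ?_ (xor_lt ?_ (ih (fun r hr => hT r (List.mem_cons_of_mem _ hr)) _ _))
    all_goals
      split_ifs
      exacts [h1 _, by norm_num]

theorem Bf14_lt (m n : ℕ) : Bf T14 m n < 8 := Bf_lt (by decide +kernel) m n

theorem Bf8_lt (m n : ℕ) : Bf T8 m n < 8 := Bf_lt (by decide +kernel) m n

/-- `Y ∩ C(Y) = U` -/
theorem Y_inf_D (F : Frame U W K x0 x1 x2 f t a b) (h : Plane z U W K L) {y : G} (hy : y ∈ YU U W)
    (hd : y ∈ centralizer (YU U W : Set G)) : y ∈ U := by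
  have hx := F.io_xor h
  have hT := F.good14 h
  obtain ⟨n, hn⟩ := F.code14 h hy
  have hN := F.norm_cd h hn 7
  -- the norm centralises `Y`
  have hND : Nm f 7 y ∈ centralizer (YU U W : Set G) :=
    Nm_mem (fun s hs => h.conj_D F.nf.nU' hs) 7 hd
  have hsq : y * y ∈ U := by
    rw [hn.sq hx hT]; exact F.io_mem _
  have h7 : Nm f 7 y * (y ^ 7)⁻¹ ∈ U := by
    refine Nm_mod F.nf.nU (fun u hu => ?_) (F.nf.D y hd) 7
    rw [h.Y_comm hy hu, mul_inv_cancel_right]; exact hu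
  -- the code of the norm
  have hc : dot (NL 7) n = 0 ∨ dot (NL 7) n = 5461 ∨ dot (NL 7) n = 10922 ∨ dot (NL 7) n = 16383 := by
    rw [NL_seven]
    refine dot_closed (fun c => c = 0 ∨ c = 5461 ∨ c = 10922 ∨ c = 16383) (Or.inl rfl) ?_ _ ?_ n
    · intro a b ha hb
      rcases ha with rfl | rfl | rfl | rfl <;> rcases hb with rfl | rfl | rfl | rfl <;> decide
    · decide
  have hz : dot (NL 7) n = 0 := by
    have hE := F.E_cd h (k := 0) (by norm_num)
    have e := hN.comm hx hT hE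
    have e1 : Nm f 7 y * E f a b 0 = E f a b 0 * Nm f 7 y := Plane.mem_D.1 hND _ (F.E_Y h 0)
    rw [e1] at e
    have e2 : io x0 x1 x2 (Bf T14 (dot (NL 7) n) (2 ^ 0)) = 1 := (left_eq_mul.1 e)
    have e3 := (F.io_eq_one h (Bf14_lt _ _)).1 e2
    rcases hc with hc | hc | hc | hc
    · exact hc
    all_goals
      rw [hc] at e3
      exfalso
      revert e3
      decide +kernel
  rw [hz] at hN
  obtain ⟨m, hm⟩ := hN
  rw [elt_zero, one_mul] at hm
  have e7 : y ^ 7 = y * (y * y) * (y * y) * (y * y) := by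
    simp only [pow_succ, pow_zero, one_mul, mul_assoc]
  have e8 : y = (Nm f 7 y * (y ^ 7)⁻¹)⁻¹ * Nm f 7 y * ((y * y) * (y * y) * (y * y))⁻¹ := by
    rw [mul_inv_rev, inv_inv, inv_mul_cancel_right, e7]; group
  rw [e8, hm]
  exact mul_mem (mul_mem (inv_mem (by rw [← hm]; exact h7)) (F.io_mem _))
    (inv_mem (mul_mem (mul_mem hsq hsq) hsq))

/-- an element of `Y` whose code is in the radical lies in `U` -/
theorem mem_U_of_code (F : Frame U W K x0 x1 x2 f t a b) (h : Plane z U W K L) {y : G} {n : ℕ}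
    (hn : Cd (io x0 x1 x2) (g14 f a b) y n) (h0 : ∀ l < 14, Bf T14 n (2 ^ l) = 0) : y ∈ U := by
  have hx := F.io_xor h
  have hT := F.good14 h
  have hy : y ∈ YU U W := by
    refine hn.mem_of (fun m => h.U_le_Y (F.io_mem m)) ?_
    intro g hg
    obtain ⟨k, -, rfl⟩ := List.mem_map.1 hg
    exact F.E_Y h k
  refine F.Y_inf_D h hy (F.mem_D_of h (fun u hu => h.Y_comm hy hu) ?_)
  intro k hk
  have e := hn.comm hx hT (F.E_cd h hk)
  rw [h0 k hk, io_zero, mul_one] at e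
  exact e

theorem E8_pos (F : Frame U W K x0 x1 x2 f t a b) (h : Plane z U W K L) {i : ℕ} (hi : i < 8) :
    Cd (io x0 x1 x2) (g8 f a b) (E f a b (ks8.getD i 0)) (2 ^ i) := by
  have e := elt_pow (g8 f a b) i
  have e2 : (g8 f a b).getD i 1 = E f a b (ks8.getD i 0) := by
    unfold g8 ks8
    interval_cases i <;> rfl
  rw [e2] at e
  rw [← e]
  exact Cd.elt (F.io_xor h) _

/-- the positions of the basis -/
def P8 : List ℕ := [1, 2, 4, 8, 16, 32, 64, 256]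

theorem g8_g14 (F : Frame U W K x0 x1 x2 f t a b) (h : Plane z U W K L) :
    List.Forall₂ (fun x r => Cd (io x0 x1 x2) (g14 f a b) x r) (g8 f a b) P8 := by
  unfold g8
  rw [List.forall₂_map_left_iff]
  have : List.Forall₂ (fun k r => k < 14 ∧ r = 2 ^ k) ks8 P8 := by decide
  refine this.imp ?_
  rintro k r ⟨hk, rfl⟩
  exact F.E_cd h hk

theorem E_cd8 (F : Frame U W K x0 x1 x2 f t a b) (h : Plane z U W K L) {k : ℕ} (hk : k < 14) :
    Cd (io x0 x1 x2) (g8 f a b) (E f a b k) (R8.getD k 0) := by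
  have hx := F.io_xor h
  have hT := F.good14 h
  have hT8 := F.good8 h
  set r := R8.getD k 0 with hr
  have c8 : Cd (io x0 x1 x2) (g8 f a b) (elt (g8 f a b) r) r := Cd.elt hx _
  have c14 : Cd (io x0 x1 x2) (g14 f a b) (elt (g8 f a b) r) (dot P8 r) := c8.subst hx hT (F.g8_g14 h)
  have e14 := (F.E_cd h hk).mul hx hT (c14.inv hx hT)
  have hU : E f a b k * (elt (g8 f a b) r)⁻¹ ∈ U := by
    refine F.mem_U_of_code h e14 ?_
    have : ∀ k < 14, ∀ l < 14, Bf T14 (2 ^ k ^^^ dot P8 (R8.getD k 0)) (2 ^ l) = 0 := by decide +kernel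
    exact this k hk
  have e8 := (F.U_cd h (gs := g8 f a b) hU).mul hx hT8 c8
  rwa [inv_mul_cancel_right, Nat.zero_xor] at e8

/-- codes in the basis -/
theorem code8 (F : Frame U W K x0 x1 x2 f t a b) (h : Plane z U W K L) {y : G} (hy : y ∈ YU U W) :
    ∃ n < 256, Cd (io x0 x1 x2) (g8 f a b) y n := by
  have hx := F.io_xor h
  have hT8 := F.good8 h
  obtain ⟨n, hn⟩ := F.code14 h hy
  refine ⟨dot R8 n, ?_, ?_⟩
  · exact dot_closed (· < 256) (by norm_num) (fun a b ha hb => Nat.xor_lt_two_pow (n := 8) ha hb) R8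
      (by decide) n
  · refine hn.subst hx hT8 ?_
    unfold g14
    rw [List.forall₂_map_left_iff]
    have : List.Forall₂ (fun k r => k < 14 ∧ r = R8.getD k 0) (List.range 14) R8 := by decide
    refine this.imp ?_
    rintro k r ⟨hk, rfl⟩
    exact F.E_cd8 h hk

theorem mem_Y_of_code (F : Frame U W K x0 x1 x2 f t a b) (h : Plane z U W K L) {y : G} {n : ℕ}
    (hn : Cd (io x0 x1 x2) (g8 f a b) y n) : y ∈ YU U W := by
  refine hn.mem_of (fun m => h.U_le_Y (F.io_mem m)) ?_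
  intro g hg
  obtain ⟨k, -, rfl⟩ := List.mem_map.1 hg
  exact F.E_Y h k

/-- the code of an element of `U` -/
theorem code_U (F : Frame U W K x0 x1 x2 f t a b) (h : Plane z U W K L) {y : G} {n : ℕ} (hn : n < 256)
    (hy : Cd (io x0 x1 x2) (g8 f a b) y n) : y ∈ U ↔ n = 0 := by
  have hx := F.io_xor h
  have hT8 := F.good8 h
  constructor
  · intro hU
    have key : ∀ n < 256, (∀ i < 8, Bf T8 n (2 ^ i) = 0) → n = 0 := by decide +kernel
    refine key n hn fun i hi => ?_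
    have hE := F.E8_pos h hi
    have e := hy.comm hx hT8 hE
    rw [← h.Y_comm (F.mem_Y_of_code h hE) hU] at e
    exact (F.io_eq_one h (Bf8_lt _ _)).1 (left_eq_mul.1 e)
  · rintro rfl
    obtain ⟨m, hm⟩ := hy
    rw [elt_zero, one_mul] at hm
    rw [hm]; exact F.io_mem m

/-- codes are unique -/
theorem code_unique (F : Frame U W K x0 x1 x2 f t a b) (h : Plane z U W K L) {y : G} {m n : ℕ} (hm : m < 256)
    (hn : n < 256) (h1 : Cd (io x0 x1 x2) (g8 f a b) y m) (h2 : Cd (io x0 x1 x2) (g8 f a b) y n) : m = n := by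
  have hx := F.io_xor h
  have hT8 := F.good8 h
  have e := h1.mul hx hT8 (h2.inv hx hT8)
  rw [mul_inv_cancel] at e
  have := (F.code_U h (Nat.xor_lt_two_pow (n := 8) hm hn) e).1 (one_mem _)
  exact Nat.xor_eq_zero_iff.1 this

/-- `f` on codes -/
def F8 : List ℕ := [4, 8, 16, 32, 64, 73, 128, 218]

theorem conj_f8 (F : Frame U W K x0 x1 x2 f t a b) (h : Plane z U W K L) {y : G} {n : ℕ}
    (hy : Cd (io x0 x1 x2) (g8 f a b) y n) : Cd (io x0 x1 x2) (g8 f a b) (f * y * f⁻¹) (dot F8 n) := by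
  refine hy.conj (F.io_xor h) (F.good8 h) ?_ fun m => ⟨_, F.conj_f h m⟩
  unfold g8
  rw [List.forall₂_map_left_iff]
  have : List.Forall₂ (fun k r => k + 2 < 14 ∧ r = R8.getD (k + 2) 0) ks8 F8 := by decide
  refine this.imp ?_
  rintro k r ⟨hk, rfl⟩
  rw [← E_two]
  exact F.E_cd8 h hk

end Frame

end Cfsg.Agent.Omega.NOThree.Ru

end

section


/-!
# The plane configuration: `C(U) = Y`
-/

set_option autoImplicit false

namespace Cfsg.Agent.Omega.NOThree.Ru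

open Subgroup Cfsg Cfsg.Agent.MinSimple.Geo Code Cfsg.Agent.Omega.NOThree.Ru.Norm

variable {G : Type*} [Group G]

namespace Code

theorem dot_closed2 (P : ℕ → ℕ → Prop) (h0 : P 0 0)
    (hx : ∀ a b c d, P a b → P c d → P (a ^^^ c) (b ^^^ d)) :
    ∀ (R S : List ℕ), List.Forall₂ P R S → ∀ n, P (dot R n) (dot S n)
  | _, _, .nil, n => by simpa [dot] using h0
  | _, _, .cons (a := a) (b := b) (l₁ := R) (l₂ := S) hp hl, n => by
    simp only [dot]
    refine hx _ _ _ _ ?_ (dot_closed2 P h0 hx R S hl _)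
    split_ifs
    exacts [hp, h0]

end Code

/-- the span of the commutators with `a` and `b` -/
def S16 : List (ℕ × ℕ) :=
  [(0, 0), (0, 1), (1, 0), (1, 1), (2, 6), (2, 7), (3, 6), (3, 7), (6, 4), (6, 5), (7, 4), (7, 5), (4, 2), (4, 3),
    (5, 2), (5, 3)]

theorem E_zero (f a b : G) : E f a b 0 = a := by simp [E, A_zero]

theorem E_one (f a b : G) : E f a b 1 = b := by simp [E, A_zero]

namespace Frame

variable {z : G} {U : Subgroup G} {W K L : G → Subgroup G} {x0 x1 x2 f t a b : G}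

theorem row14 (F : Frame U W K x0 x1 x2 f t a b) (h : Plane z U W K L) {k : ℕ} (hk : k < 14) :
    Row (io x0 x1 x2) (E f a b k) (g14 f a b) ((List.range 14).map (mm k)) := by
  have h1 : ∀ ls : List ℕ, (∀ l ∈ ls, l < 14) →
      Row (io x0 x1 x2) (E f a b k) (ls.map (E f a b)) (ls.map (mm k)) := by
    intro ls
    induction ls with
    | nil => exact fun _ => trivial
    | cons l ls ih =>
      intro hl
      exact ⟨F.tab h k hk l (hl l (List.mem_cons_self ..)), ih fun m hm => hl m (List.mem_cons_of_mem _ hm)⟩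
  exact h1 _ fun k hk => by simpa using hk

theorem row_cd (F : Frame U W K x0 x1 x2 f t a b) (h : Plane z U W K L) {k : ℕ} (hk : k < 14) {y : G} {n : ℕ}
    (hy : Cd (io x0 x1 x2) (g14 f a b) y n) :
    y * E f a b k * y⁻¹ * (E f a b k)⁻¹ = io x0 x1 x2 (dot ((List.range 14).map (mm k)) n) := by
  have hx := F.io_xor h
  have hT := F.good14 h
  have e := (F.row14 h hk).elt hx hT (fun m => h.Y_comm (F.E_Y h k) (F.io_mem m)) n
  obtain ⟨m, rfl⟩ := hy
  set c := dot ((List.range 14).map (mm k)) n with hc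
  set B := elt (g14 f a b) n with hB
  have hBY : B ∈ YU U W := by
    refine (Cd.elt hx n).mem_of (fun m => h.U_le_Y (F.io_mem m)) ?_
    intro g hg
    obtain ⟨k, -, rfl⟩ := List.mem_map.1 hg
    exact F.E_Y h k
  have e1 : io x0 x1 x2 m * E f a b k = E f a b k * io x0 x1 x2 m := (h.Y_comm (F.E_Y h k) (F.io_mem m)).symm
  have e2 : B * E f a b k = E f a b k * B * io x0 x1 x2 c := by
    rw [e, mul_assoc (B * E f a b k), ι_sq hx, mul_one]
  have e3 : (E f a b k * B) * io x0 x1 x2 c = io x0 x1 x2 c * (E f a b k * B) :=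
    h.Y_comm (mul_mem (F.E_Y h k) hBY) (F.io_mem c)
  calc B * io x0 x1 x2 m * E f a b k * (B * io x0 x1 x2 m)⁻¹ * (E f a b k)⁻¹
      = B * (io x0 x1 x2 m * E f a b k) * (io x0 x1 x2 m)⁻¹ * B⁻¹ * (E f a b k)⁻¹ := by group
    _ = (B * E f a b k) * B⁻¹ * (E f a b k)⁻¹ := by rw [e1]; group
    _ = io x0 x1 x2 c * (E f a b k * B) * B⁻¹ * (E f a b k)⁻¹ := by rw [e2, e3]
    _ = _ := by group

theorem t_inv (F : Frame U W K x0 x1 x2 f t a b) (h : Plane z U W K L) {n : ℕ} (hn : n < 8) :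
    t⁻¹ * io x0 x1 x2 n * t = io x0 x1 x2 (HU (HU n)) := by
  have e := F.conj_h h (HU (HU n))
  have key : ∀ n < 8, HU (HU (HU n)) = n := by decide
  rw [key n hn] at e
  rw [← e]; group

theorem f_inv (F : Frame U W K x0 x1 x2 f t a b) (h : Plane z U W K L) {n : ℕ} (hn : n < 8) :
    f⁻¹ * io x0 x1 x2 n * f = io x0 x1 x2 (FU (FU (FU (FU (FU (FU n)))))) := by
  have e := F.conj_f h (FU (FU (FU (FU (FU (FU n))))))
  have key : ∀ n < 8, FU (FU (FU (FU (FU (FU (FU n)))))) = n := by decide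
  rw [key n hn] at e
  rw [← e]; group

theorem t3_mem (F : Frame U W K x0 x1 x2 f t a b) (h : Plane z U W K L) : t ^ 3 ∈ centralizer (U : Set G) := by
  rw [Plane.mem_C]
  intro u hu
  obtain ⟨n, hn, rfl⟩ := F.io_surj h hu
  apply mul_inv_eq_iff_eq_mul.1
  have key : ∀ n < 8, HU (HU (HU n)) = n := by decide
  calc t ^ 3 * io x0 x1 x2 n * (t ^ 3)⁻¹ = t * (t * (t * io x0 x1 x2 n * t⁻¹) * t⁻¹) * t⁻¹ := by
        simp only [pow_succ, pow_zero]; group
    _ = io x0 x1 x2 n := by rw [F.conj_h h, F.conj_h h, F.conj_h h, key n hn]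

theorem ft_eq (F : Frame U W K x0 x1 x2 f t a b) (h : Plane z U W K L) :
    ∃ c ∈ centralizer (U : Set G), f * t = t * (c * f ^ 4) := by
  have f3 : (f ^ 4)⁻¹ = f * f * f := by
    apply inv_eq_of_mul_eq_one_right
    rw [← F.f7]
    simp only [pow_succ, pow_zero, one_mul, mul_assoc]
  refine ⟨t⁻¹ * f * t * (f ^ 4)⁻¹, ?_, by group⟩
  rw [f3, Plane.mem_C]
  intro u hu
  obtain ⟨n, hn, rfl⟩ := F.io_surj h hu
  apply mul_inv_eq_iff_eq_mul.1
  have key : ∀ n < 8, HU (HU (FU (HU (FU (FU (FU n)))))) = n := by decide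
  have lt : ∀ n < 8, FU (HU (FU (FU (FU n)))) < 8 := by decide
  calc t⁻¹ * f * t * (f * f * f) * io x0 x1 x2 n * (t⁻¹ * f * t * (f * f * f))⁻¹
      = t⁻¹ * (f * (t * (f * (f * (f * io x0 x1 x2 n * f⁻¹) * f⁻¹) * f⁻¹) * t⁻¹) * f⁻¹) * t := by group
    _ = io x0 x1 x2 n := by
        rw [F.conj_f h, F.conj_f h, F.conj_f h, F.conj_h h, F.conj_f h, F.t_inv h (lt n hn), key n hn]

/-- elements of `W x0` are determined modulo `U` by the commutator with `E 4` -/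
theorem W_det (F : Frame U W K x0 x1 x2 f t a b) (h : Plane z U W K L) {w : G} (hw : w ∈ W x0) {c : ℕ} (hc : c < 8)
    (e : w * E f a b 4 = E f a b 4 * w * io x0 x1 x2 c) :
    (c = 4 → ∃ u ∈ U, w = b * u) ∧ (c = 2 → ∃ u ∈ U, w = a * b * u) := by
  have hx := F.io_xor h
  have hT := F.good14 h
  have hE := F.E_cd h (k := 4) (by norm_num)
  have ha := F.E_cd h (k := 0) (by norm_num)
  have hb := F.E_cd h (k := 1) (by norm_num)
  have e0 : E f a b 0 = a := E_zero f a b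
  have e1 : E f a b 1 = b := E_one f a b
  rw [e0] at ha
  rw [e1] at hb
  obtain ⟨u, hu, hw'⟩ := F.W_gen0 h hw
  have hu' := F.U_cd h (gs := g14 f a b) hu
  have key : ∀ n, Cd (io x0 x1 x2) (g14 f a b) w n → c = Bf T14 n (2 ^ 4) := by
    intro n hn
    have e2 := hn.comm hx hT hE
    rw [e] at e2
    exact F.io_inj h hc (Bf14_lt _ _) (mul_left_cancel e2)
  rcases hw' with rfl | rfl | rfl | rfl
  · have := key _ hu'
    rw [this]
    constructor
    · exact fun h => absurd h (by decide +kernel)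
    · exact fun h => absurd h (by decide +kernel)
  · have := key _ (ha.mul hx hT hu')
    rw [this]
    constructor
    · exact fun h => absurd h (by decide +kernel)
    · exact fun h => absurd h (by decide +kernel)
  · have := key _ (hb.mul hx hT hu')
    rw [this]
    constructor
    · exact fun _ => ⟨u, hu, rfl⟩
    · exact fun h => absurd h (by decide +kernel)
  · have := key _ ((ha.mul hx hT hb).mul hx hT hu')
    rw [this]
    constructor
    · exact fun h => absurd h (by decide +kernel)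
    · exact fun _ => ⟨u, hu, rfl⟩

theorem t_fl (F : Frame U W K x0 x1 x2 f t a b) (h : Plane z U W K L) {p q g : G} (hg : Fl U W K p q g) :
    Fl U W K (t * p * t⁻¹) (t * q * t⁻¹) (t * g * t⁻¹) := by
  refine ⟨?_, ?_, ?_⟩
  · rw [← h.cj_W]; exact conj_mem_cj hg.mem
  · intro h1
    apply hg.notMem
    have := F.nh.nU' _ h1
    have e : t⁻¹ * (t * g * t⁻¹) * t = g := by group
    rwa [e] at this
  · rw [← h.cj_K]; exact conj_mem_cj hg.memK

theorem t_a (F : Frame U W K x0 x1 x2 f t a b) (h : Plane z U W K L) : ∃ u ∈ U, t * a * t⁻¹ = b * u := by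
  have h1 := F.t_fl h F.fa
  rw [F.h0, F.h1] at h1
  refine (F.W_det h h1.mem (c := 4) (by norm_num) ?_).1 rfl
  rw [← io_one x0 x1 x2, ← io_four x0 x1 x2] at h1
  exact F.left h 1 4 3 (by decide) h1 (F.FA1 h 2)

theorem t_b (F : Frame U W K x0 x1 x2 f t a b) (h : Plane z U W K L) : ∃ u ∈ U, t * b * t⁻¹ = a * b * u := by
  have h1 := F.t_fl h F.fb
  rw [F.h0, F.h2] at h1
  have i : Ind U (io x0 x1 x2 1) (io x0 x1 x2 6) (io x0 x1 x2 2) := F.ind_io h (by decide)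
  rw [io_one, io_six] at i
  have h2 := h.fl_mul _ i.p_mem i.p_ne _ i.q_mem i.q_ne i.pq _ h1
  refine (F.W_det h h1.mem (c := 2) (by norm_num) ?_).2 rfl
  have h3 : Fl U W K (io x0 x1 x2 1) (io x0 x1 x2 7) (t * b * t⁻¹) := by
    rw [io_one, io_seven, mul_assoc]; exact h2
  exact F.gen h 1 4 7 2 (by decide) h3 (F.FA3 h 2)

/-- an element of `C(U)` fixed by `f` and `t` modulo `D` lies in `D` -/
theorem fixed_D (F : Frame U W K x0 x1 x2 f t a b) (h : Plane z U W K L) {c : G}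
    (hc : c ∈ centralizer (U : Set G)) (hf : f * c * f⁻¹ * c⁻¹ ∈ centralizer (YU U W : Set G))
    (ht : t * c * t⁻¹ * c⁻¹ ∈ centralizer (YU U W : Set G)) : c ∈ centralizer (YU U W : Set G) := by
  have hx := F.io_xor h
  have p0 := F.ind.p_mem
  have p1 := F.ind.p_ne
  have haW := F.fa.mem
  have hbW := F.fb.mem
  have e0 : E f a b 0 = a := E_zero f a b
  have e1 : E f a b 1 = b := E_one f a b
  obtain ⟨y, hy, b', hb', hcy⟩ := h.cent x0 p0 p1 c hc
  obtain ⟨n, hn⟩ := F.code14 h hy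
  have cb' : ∀ w ∈ W x0, c * w * c⁻¹ * w⁻¹ = y * w * y⁻¹ * w⁻¹ := by
    intro w hw
    have : b' * w = w * b' := (mem_centralizer_iff.1 hb' w hw).symm
    rw [hcy, mul_inv_rev, mul_assoc y b' w, this]; group
  set s := dot ((List.range 14).map (mm 0)) n with hs
  set r := dot ((List.range 14).map (mm 1)) n with hr
  have φa : c * a * c⁻¹ * a⁻¹ = io x0 x1 x2 s := by
    have := F.row_cd h (k := 0) (by norm_num) hn
    rw [e0] at this
    rw [cb' a haW, this]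
  have φb : c * b * c⁻¹ * b⁻¹ = io x0 x1 x2 r := by
    have := F.row_cd h (k := 1) (by norm_num) hn
    rw [e1] at this
    rw [cb' b hbW, this]
  -- the pair lies in the span
  have hsr : (s, r) ∈ S16 := by
    refine Code.dot_closed2 (fun s r => (s, r) ∈ S16) (by decide) ?_ _ _ ?_ n
    · have : ∀ x ∈ S16, ∀ y ∈ S16, (x.1 ^^^ y.1, x.2 ^^^ y.2) ∈ S16 := by decide
      exact fun a b c d h1 h2 => this _ h1 _ h2
    · decide
  have lt : ∀ x ∈ S16, x.1 < 8 ∧ x.2 < 8 := by decide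
  have hs8 : s < 8 := (lt _ hsr).1
  have hr8 : r < 8 := (lt _ hsr).2
  -- equivariance
  have eqv : ∀ w ∈ W x0, ∀ m, c * w * c⁻¹ * w⁻¹ = io x0 x1 x2 m →
      c * (t * w * t⁻¹) * c⁻¹ * (t * w * t⁻¹)⁻¹ = io x0 x1 x2 (HU m) := by
    intro w hw m e
    set d := t * c * t⁻¹ * c⁻¹ with hd
    have hcd : c = d⁻¹ * (t * c * t⁻¹) := by rw [hd]; group
    have htw : t * w * t⁻¹ ∈ YU U W := h.conj_Y F.nh.nU (h.W_le_Y p0 p1 hw)
    have hdw : ∀ x ∈ YU U W, d⁻¹ * x * d = x := by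
      intro x hx
      have := Plane.mem_D.1 (inv_mem ht) x hx
      rw [this]; group
    have e3 : t * (c * w * c⁻¹) * t⁻¹ = io x0 x1 x2 (HU m) * (t * w * t⁻¹) := by
      have : c * w * c⁻¹ = io x0 x1 x2 m * w := by rw [← e]; group
      rw [this, ← F.conj_h h]; group
    have hm : io x0 x1 x2 (HU m) * (t * w * t⁻¹) ∈ YU U W := mul_mem (h.U_le_Y (F.io_mem _)) htw
    calc c * (t * w * t⁻¹) * c⁻¹ * (t * w * t⁻¹)⁻¹
        = d⁻¹ * (t * (c * w * c⁻¹) * t⁻¹) * d * (t * w * t⁻¹)⁻¹ := by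
          conv_lhs => rw [hcd]
          group
      _ = io x0 x1 x2 (HU m) := by rw [e3, hdw _ hm]; group
  have mulU : ∀ {w u : G}, u ∈ U → c * (w * u) * c⁻¹ * (w * u)⁻¹ = c * w * c⁻¹ * w⁻¹ := by
    intro w u hu
    have := Plane.conj_C hc hu
    calc c * (w * u) * c⁻¹ * (w * u)⁻¹ = c * w * c⁻¹ * (c * u * c⁻¹) * u⁻¹ * w⁻¹ := by group
      _ = _ := by rw [this]; group
  have r1 : r = HU s := by
    obtain ⟨u, hu, e⟩ := F.t_a h
    have e2 := eqv a haW s φa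
    rw [e, mulU hu, φb] at e2
    exact F.io_inj h hr8 (by revert hs8; generalize s = s; revert s; decide) e2
  have r2 : s ^^^ r = HU r := by
    obtain ⟨u, hu, e⟩ := F.t_b h
    have e2 := eqv b hbW r φb
    rw [e, mulU hu] at e2
    have e3 : c * (a * b) * c⁻¹ * (a * b)⁻¹ = io x0 x1 x2 (s ^^^ r) := by
      rw [hx, ← φa, ← φb]
      have e4 : (c * b * c⁻¹ * b⁻¹) * a⁻¹ = a⁻¹ * (c * b * c⁻¹ * b⁻¹) := by
        rw [φb]
        exact (h.Y_comm (inv_mem (h.W_le_Y p0 p1 haW)) (F.io_mem r)).symm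
      calc c * (a * b) * c⁻¹ * (a * b)⁻¹ = (c * a * c⁻¹) * ((c * b * c⁻¹ * b⁻¹) * a⁻¹) := by group
        _ = _ := by rw [e4]; group
    rw [e3] at e2
    exact F.io_inj h (xor_lt hs8 hr8) (by revert hr8; generalize r = r; revert r; decide) e2
  have hz : s = 0 ∧ r = 0 := by
    have key : ∀ x ∈ S16, x.2 = HU x.1 → x.1 ^^^ x.2 = HU x.2 → x.1 = 0 ∧ x.2 = 0 := by decide
    exact key _ hsr r1 r2
  rw [hz.1, io_zero] at φa
  rw [hz.2, io_zero] at φb
  have step : ∀ g : G, g ∈ YU U W → c * g = g * c → ∀ j, c * A f g j = A f g j * c ∧ A f g j ∈ YU U W := by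
    intro g hg hcg j
    induction j with
    | zero => rw [A_zero]; exact ⟨hcg, hg⟩
    | succ j ih =>
      obtain ⟨ih, ihY⟩ := ih
      rw [A_succ]
      have hY := h.conj_Y F.nf.nU ihY
      refine ⟨?_, hY⟩
      set d := f * c * f⁻¹ * c⁻¹ with hd
      have hcd : c = d⁻¹ * (f * c * f⁻¹) := by rw [hd]; group
      have hdw := Plane.mem_D.1 (inv_mem hf) _ hY
      calc c * (f * A f g j * f⁻¹) = d⁻¹ * (f * (c * A f g j) * f⁻¹) := by
            conv_lhs => rw [hcd]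
            group
        _ = d⁻¹ * (f * A f g j * f⁻¹) * (f * c * f⁻¹) := by rw [ih]; group
        _ = (f * A f g j * f⁻¹) * c := by
            rw [hdw]
            conv_rhs => rw [hcd]
            group
  have ca : c * a = a * c := mul_inv_eq_iff_eq_mul.1 (mul_inv_eq_one.1 φa)
  have cb : c * b = b * c := mul_inv_eq_iff_eq_mul.1 (mul_inv_eq_one.1 φb)
  refine F.mem_D_of h (Plane.mem_C.1 hc) ?_
  intro k _
  unfold E
  split_ifs
  · exact (step a (h.W_le_Y p0 p1 haW) ca _).1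
  · exact (step b (h.W_le_Y p0 p1 hbW) cb _).1

/-- `C(U) = Y D` -/
theorem C_eq_YD (F : Frame U W K x0 x1 x2 f t a b) (h : Plane z U W K L) {c : G}
    (hc : c ∈ centralizer (U : Set G)) :
    ∃ y ∈ YU U W, ∃ d ∈ centralizer (YU U W : Set G), c = y * d := by
  obtain ⟨g, hg, hft⟩ := F.ft_eq h
  have Cinv : ∀ c ∈ centralizer (U : Set G), ∀ u ∈ U, c⁻¹ * u * c ∈ U := by
    intro c hc u hu
    have := Plane.conj_C (inv_mem hc) hu
    rw [inv_inv] at this
    rw [this]; exact hu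
  obtain ⟨c₂, hc₂, ⟨s, hs, m, hm, e⟩, h1, h2⟩ := exists_fixed (S := centralizer (U : Set G))
    (M := centralizer (YU U W : Set G)) (T := YU U W) (f := f) (t := t)
    (fun s hs => h.conj_CU F.nf.nU' hs) (fun s hs => h.conj_CU F.nh.nU' hs)
    (fun s hs m hm => h.conj_D (Cinv s hs) hm)
    (fun s hs => h.conj_Y F.nf.nU hs) (fun s hs => h.conj_Y F.nh.nU hs)
    (fun s hs m hm => h.C_conj_Y hs hm) (fun s hs s' hs' => h.comm_CC hs hs') (fun s hs => h.sq_C hs)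
    (fun s hs => F.nf.C s hs) (fun s hs => F.nh.C s hs) F.f7
    (fun s hs => h.comm_CC (F.t3_mem h) hs)
    (by
      intro s hs hfs
      have h4 := pow_conj_mod (T := centralizer (YU U W : Set G)) (f := f) (c := s)
        (fun t ht => h.conj_D F.nf.nU' ht) hfs 4
      set d := f ^ 4 * s * (f ^ 4)⁻¹ * s⁻¹ with hd
      have e1 : f * (t * s * t⁻¹) * f⁻¹ * (t * s * t⁻¹)⁻¹ =
          t * ((g * d * g⁻¹) * (g * s * g⁻¹ * s⁻¹)) * t⁻¹ := by
        calc f * (t * s * t⁻¹) * f⁻¹ * (t * s * t⁻¹)⁻¹ = (f * t) * s * (f * t)⁻¹ * (t * s * t⁻¹)⁻¹ := by group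
          _ = t * (g * (f ^ 4 * s * (f ^ 4)⁻¹) * g⁻¹ * s⁻¹) * t⁻¹ := by rw [hft]; group
          _ = _ := by rw [hd]; group
      rw [e1]
      exact h.conj_D F.nh.nU' (mul_mem (h.conj_D (Cinv g hg) h4) (h.comm_CC hg hs))) hc
  have h3 := F.fixed_D h hc₂ h1 h2
  refine ⟨s⁻¹, inv_mem hs, c₂ * m⁻¹, mul_mem h3 (inv_mem hm), ?_⟩
  rw [e]; group

end Frame

end Cfsg.Agent.Omega.NOThree.Ru

end

section


/-!
# The plane configuration: `C_G(L p) = ⟨p⟩`, `C(Y) = U`, `C(U) = Y`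
-/

set_option autoImplicit false

namespace Cfsg.Agent.Omega.NOThree.Ru

open Subgroup Cfsg Cfsg.Agent.MinSimple.Geo Code Cfsg.Agent.Omega.NOThree.Ru.Norm

variable {G : Type*} [Group G]

namespace Frame

variable {z : G} {U : Subgroup G} {W K L : G → Subgroup G} {x0 x1 x2 f t a b : G}

theorem X_inj {i j : ℕ} (hi : i < 7) (hj : j < 7) (e : X i = X j) : i = j := by
  have : ∀ i < 7, ∀ j < 7, X i = X j → i = j := by decide
  exact this i hi j hj e

/-- `C_G(L x0) = ⟨x0⟩` -/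
theorem L_fix0 (F : Frame U W K x0 x1 x2 f t a b) (h : Plane z U W K L) {c : G}
    (hc : ∀ l ∈ L x0, c * l = l * c) : c = 1 ∨ c = x0 := by
  by_contra hcon
  push Not at hcon
  obtain ⟨c1, cx⟩ := hcon
  have p0 := F.ind.p_mem
  have p1 := F.ind.p_ne
  have hD : c ∈ centralizer (YU U W : Set G) := by
    rw [Plane.mem_D_iff]
    intro q hq hq1 w hw
    exact hc w (h.W_le_L _ p0 p1 q hq hq1 hw)
  let e : Bool → G := fun ε => if ε then c else c * x0
  have eL : ∀ ε, ∀ l ∈ L x0, e ε * l = l * e ε := by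
    intro ε l hl
    cases ε
    · change c * x0 * l = l * (c * x0)
      rw [mul_assoc, ← h.L_cent _ p0 p1 l hl, ← mul_assoc, hc l hl, mul_assoc]
    · exact hc l hl
  have e1 : ∀ ε, e ε ≠ 1 := by
    intro ε
    cases ε
    · change c * x0 ≠ 1
      intro h1
      apply cx
      rw [mul_eq_one_iff_eq_inv, h.inv_U p0] at h1
      exact h1
    · exact c1
  have eU : ∀ ε, e ε * c⁻¹ ∈ U := by
    intro ε
    cases ε
    · change c * x0 * c⁻¹ ∈ U
      rw [Plane.conj_C (h.D_le_C hD) p0]; exact p0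
    · change c * c⁻¹ ∈ U
      rw [mul_inv_cancel]; exact one_mem _
  have eD : ∀ ε, e ε ∈ centralizer (YU U W : Set G) := by
    intro ε
    cases ε
    · exact mul_mem hD (h.U_le_D p0)
    · exact hD
  have gU : ∀ (i : ℕ) ε, f ^ i * e ε * (f ^ i)⁻¹ * c⁻¹ ∈ U := by
    intro i ε
    have h1 := (h.nice_pow F.nf i).D _ (eD ε)
    have : f ^ i * e ε * (f ^ i)⁻¹ * c⁻¹ = f ^ i * e ε * (f ^ i)⁻¹ * (e ε)⁻¹ * (e ε * c⁻¹) := by group
    rw [this]; exact mul_mem h1 (eU ε)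
  let g : Fin 7 × Bool → U := fun x => ⟨f ^ (x.1 : ℕ) * e x.2 * (f ^ (x.1 : ℕ))⁻¹ * c⁻¹, gU _ _⟩
  have ginj : Function.Injective g := by
    rintro ⟨i, ε⟩ ⟨j, δ⟩ hij
    have h1 : f ^ (i : ℕ) * e ε * (f ^ (i : ℕ))⁻¹ * c⁻¹ = f ^ (j : ℕ) * e δ * (f ^ (j : ℕ))⁻¹ * c⁻¹ :=
      congrArg Subtype.val hij
    have h2 := mul_right_cancel h1
    by_cases hne : i = j
    · subst hne
      have h3 : e ε = e δ := by
        have := mul_right_cancel h2
        exact mul_left_cancel this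
      have : ε = δ := by
        cases ε <;> cases δ
        · rfl
        · exact absurd (mul_eq_left.1 (h3 : c * x0 = c)) p1
        · exact absurd (mul_eq_left.1 (h3.symm : c * x0 = c)) p1
        · rfl
      rw [this]
    · exfalso
      have hX : io x0 x1 x2 (X i) ≠ io x0 x1 x2 (X j) := by
        intro h4
        apply hne
        apply Fin.ext
        exact X_inj i.2 j.2 (F.io_inj h (X_lt _).1 (X_lt _).1 h4)
      have cl : ∀ (i : ℕ) ε, ∀ l ∈ L (io x0 x1 x2 (X i)),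
          f ^ i * e ε * (f ^ i)⁻¹ * l = l * (f ^ i * e ε * (f ^ i)⁻¹) := by
        intro i ε l hl
        have h5 : (f ^ i)⁻¹ * l * f ^ i ∈ L x0 := by
          have := conj_mem_cj (g := (f ^ i)⁻¹) hl
          rw [h.cj_L, ← F.conj_pow_X h i, inv_inv] at this
          have e : (f ^ i)⁻¹ * (f ^ i * x0 * (f ^ i)⁻¹) * f ^ i = x0 := by group
          rwa [e] at this
        have h6 := eL ε _ h5
        calc f ^ i * e ε * (f ^ i)⁻¹ * l = f ^ i * (e ε * ((f ^ i)⁻¹ * l * f ^ i)) * (f ^ i)⁻¹ := by group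
          _ = _ := by rw [h6]; group
      have h7 := h.L_inf _ (F.io_mem _) (F.pt h i) _ (F.io_mem _) (F.pt h j) hX
        (f ^ (i : ℕ) * e ε * (f ^ (i : ℕ))⁻¹) (cl i ε) (by rw [h2]; exact cl j δ)
      apply e1 ε
      calc e ε = (f ^ (i : ℕ))⁻¹ * (f ^ (i : ℕ) * e ε * (f ^ (i : ℕ))⁻¹) * f ^ (i : ℕ) := by group
        _ = 1 := by rw [h7]; group
  have hfin : Finite U := Nat.finite_of_card_ne_zero (by rw [h.card_U]; norm_num)
  have := Nat.card_le_card_of_injective g ginj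
  rw [h.card_U, Nat.card_prod, Nat.card_eq_fintype_card, Nat.card_eq_fintype_card] at this
  simp at this

/-- `C_G(L p) = ⟨p⟩` -/
theorem L_fix (F : Frame U W K x0 x1 x2 f t a b) (h : Plane z U W K L) {p : G} (hp : p ∈ U) (hp1 : p ≠ 1)
    {c : G} (hc : ∀ l ∈ L p, c * l = l * c) : c = 1 ∨ c = p := by
  obtain ⟨j, -, rfl⟩ := F.exists_X h hp hp1
  rw [← F.conj_pow_X h j] at hc ⊢
  have h1 : ∀ l ∈ L x0, (f ^ j)⁻¹ * c * f ^ j * l = l * ((f ^ j)⁻¹ * c * f ^ j) := by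
    intro l hl
    have h2 : f ^ j * l * (f ^ j)⁻¹ ∈ L (f ^ j * x0 * (f ^ j)⁻¹) := by
      rw [← h.cj_L]; exact conj_mem_cj hl
    have h3 := hc _ h2
    calc (f ^ j)⁻¹ * c * f ^ j * l = (f ^ j)⁻¹ * (c * (f ^ j * l * (f ^ j)⁻¹)) * f ^ j := by group
      _ = _ := by rw [h3]; group
  rcases F.L_fix0 h h1 with h2 | h2
  · left
    calc c = f ^ j * ((f ^ j)⁻¹ * c * f ^ j) * (f ^ j)⁻¹ := by group
      _ = 1 := by rw [h2]; group
  · right
    calc c = f ^ j * ((f ^ j)⁻¹ * c * f ^ j) * (f ^ j)⁻¹ := by group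
      _ = _ := by rw [h2]

/-- `[D, K p] ≤ ⟨p⟩` -/
theorem comm_DK (F : Frame U W K x0 x1 x2 f t a b) (h : Plane z U W K L) {p : G} (hp : p ∈ U) (hp1 : p ≠ 1)
    {d k : G} (hd : d ∈ centralizer (YU U W : Set G)) (hk : k ∈ K p) :
    k * d * k⁻¹ * d⁻¹ = 1 ∨ k * d * k⁻¹ * d⁻¹ = p := by
  refine F.L_fix h hp hp1 (h.L_gen p hp hp1 _ ?_)
  intro l hl
  have hlp : l * p = p * l := h.L_cent p hp hp1 l hl
  have hlp' : l * p * l⁻¹ = p := by rw [hlp, mul_inv_cancel_right]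
  have hkp : k * p = p * k := h.K_cent p hp hp1 k hk
  have ppW : p ∈ W p := h.U_le p hp hp1 hp
  set d' := l * d * l⁻¹ with hd'
  have hdB : d ∈ centralizer (W p : Set G) := h.D_le_B hp hp1 hd
  set w1 := l * d * l⁻¹ * d⁻¹ with hw1
  have w1W : w1 ∈ W p := h.L_B p hp hp1 l hl d hdB
  set e := k * d' * k⁻¹ * d'⁻¹ with he
  -- `d'` commutes with `W (l q l⁻¹)`
  have d'c : ∀ q ∈ U, q ≠ 1 → ∀ w ∈ W (l * q * l⁻¹), d' * w = w * d' := by
    intro q hq hq1 w hw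
    have h1 : l⁻¹ * w * l ∈ W q := by
      have := conj_mem_cj (g := l⁻¹) hw
      rw [h.cj_W, inv_inv] at this
      have e : l⁻¹ * (l * q * l⁻¹) * l = q := by group
      rwa [e] at this
    have h2 := Plane.mem_D_iff.1 hd q hq hq1 _ h1
    calc d' * w = l * (d * (l⁻¹ * w * l)) * l⁻¹ := by rw [hd']; group
      _ = _ := by rw [h2, hd']; group
  -- `p` commutes with `W (l q l⁻¹)`
  have pc : ∀ q ∈ U, q ≠ 1 → ∀ w ∈ W (l * q * l⁻¹), p * w = w * p := by
    intro q hq hq1 w hw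
    have h1 : l⁻¹ * w * l ∈ W q := by
      have := conj_mem_cj (g := l⁻¹) hw
      rw [h.cj_W, inv_inv] at this
      have e : l⁻¹ * (l * q * l⁻¹) * l = q := by group
      rwa [e] at this
    have h2 := h.comm_W hq hq1 (h.U_le q hq hq1 hp) h1
    calc p * w = l * p * l⁻¹ * w := by rw [hlp']
      _ = l * (p * (l⁻¹ * w * l)) * l⁻¹ := by group
      _ = l * (l⁻¹ * w * l) * (p * l⁻¹) := by rw [h2]; group
      _ = w * (l * p * l⁻¹) := by group
      _ = _ := by rw [hlp']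
  -- `k` permutes the `W (l q l⁻¹)`
  have kq : ∀ q ∈ U, q ≠ 1 → ∃ q' ∈ U, q' ≠ 1 ∧ k⁻¹ * (l * q * l⁻¹) * k = l * q' * l⁻¹ := by
    intro q hq hq1
    have h1 : l * q * l⁻¹ ∈ W p := h.conj_W hlp' (h.U_le p hp hp1 hq)
    have h2 := h.K_act p hp hp1 k⁻¹ (inv_mem hk) _ h1
    rw [inv_inv] at h2
    rcases h2 with h2 | h2
    · exact ⟨q, hq, hq1, h2⟩
    · refine ⟨q * p, mul_mem hq hp, ?_, ?_⟩
      · intro h3
        have h4 : l * q * l⁻¹ * p = 1 := by
          calc l * q * l⁻¹ * p = l * q * l⁻¹ * (l * p * l⁻¹) := by rw [hlp']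
            _ = l * (q * p) * l⁻¹ := by group
            _ = 1 := by rw [h3]; group
        rw [h4] at h2
        apply hq1
        calc q = l⁻¹ * (k * (k⁻¹ * (l * q * l⁻¹) * k) * k⁻¹) * l := by group
          _ = 1 := by rw [h2]; group
      · rw [h2]
        calc l * q * l⁻¹ * p = l * q * l⁻¹ * (l * p * l⁻¹) := by rw [hlp']
          _ = _ := by group
  -- `e` commutes with the `W (l q l⁻¹)`
  have ec : ∀ q ∈ U, q ≠ 1 → ∀ w ∈ W (l * q * l⁻¹), e * w = w * e := by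
    intro q hq hq1 w hw
    obtain ⟨q', hq', hq1', e1⟩ := kq q hq hq1
    have h1 : k⁻¹ * w * k ∈ W (l * q' * l⁻¹) := by
      have := conj_mem_cj (g := k⁻¹) hw
      rw [h.cj_W, inv_inv] at this
      rwa [← e1]
    have h2 := d'c q' hq' hq1' _ h1
    have h3 : k * d' * k⁻¹ * w = w * (k * d' * k⁻¹) := by
      calc k * d' * k⁻¹ * w = k * (d' * (k⁻¹ * w * k)) * k⁻¹ := by group
        _ = _ := by rw [h2]; group
    have h4 := d'c q hq hq1 w hw
    calc e * w = k * d' * k⁻¹ * (d'⁻¹ * (w * d') * d'⁻¹) := by rw [he]; group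
      _ = k * d' * k⁻¹ * w * d'⁻¹ := by rw [← h4]; group
      _ = _ := by rw [h3, he]; group
  have ecp : ∀ w ∈ W p, e * w = w * e := by
    have := ec p hp hp1
    rw [hlp'] at this
    exact this
  -- the commutator is `e` or `p e`
  have hdd : d = w1⁻¹ * d' := by rw [hw1, hd']; group
  have c1 : k * d * k⁻¹ * d⁻¹ = (k * w1⁻¹ * k⁻¹) * w1 * e := by
    have : e * w1 = w1 * e := ecp w1 w1W
    rw [mul_assoc (k * w1⁻¹ * k⁻¹) w1 e, ← this]
    conv_lhs => rw [hdd]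
    rw [he]; group
  have c2 : k * d * k⁻¹ * d⁻¹ = e ∨ k * d * k⁻¹ * d⁻¹ = p * e := by
    rcases h.K_act p hp hp1 k hk w1⁻¹ (inv_mem w1W) with h1 | h1
    · left; rw [c1, h1]; group
    · right
      rw [c1, h1]
      have := h.comm_W hp hp1 ppW w1W
      calc w1⁻¹ * p * w1 * e = w1⁻¹ * (p * w1) * e := by group
        _ = _ := by rw [this]; group
  intro q hq hq1 w hw
  rcases c2 with c2 | c2
  · rw [c2]; exact ec q hq hq1 w hw
  · rw [c2, mul_assoc, ec q hq hq1 w hw, ← mul_assoc, pc q hq hq1 w hw, mul_assoc]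

/-- an element of `D` which centralises `K p` lies in `⟨p⟩` -/
theorem K_trivial (F : Frame U W K x0 x1 x2 f t a b) (h : Plane z U W K L) {p : G} (hp : p ∈ U) (hp1 : p ≠ 1)
    {c : G} (hd : c ∈ centralizer (YU U W : Set G)) (hk : ∀ k ∈ K p, k * c = c * k) : c = 1 ∨ c = p := by
  refine F.L_fix h hp hp1 (h.L_gen p hp hp1 _ ?_)
  intro l hl q hq hq1 w hw
  have hlp : l * p = p * l := h.L_cent p hp hp1 l hl
  have hlp' : l * p * l⁻¹ = p := by rw [hlp, mul_inv_cancel_right]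
  have hlp'' : l⁻¹ * p * l = p := by
    calc l⁻¹ * p * l = l⁻¹ * (l * p * l⁻¹) * l := by rw [hlp']
      _ = p := by group
  set w1 := l * c * l⁻¹ * c⁻¹ with hw1
  have w1W : w1 ∈ W p := h.L_B p hp hp1 l hl c (h.D_le_B hp hp1 hd)
  have h1 : ∀ k ∈ K p, k * w1 = w1 * k := by
    intro k hk'
    have h2 : l⁻¹ * k * l ∈ K p := by
      have := conj_mem_cj (g := l⁻¹) hk'
      rw [h.cj_K, inv_inv, hlp''] at this
      exact this
    have h3 := hk _ h2
    have h4 := hk _ hk'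
    have h5 : k * (l * c * l⁻¹) = l * c * l⁻¹ * k := by
      calc k * (l * c * l⁻¹) = l * (l⁻¹ * k * l * c) * l⁻¹ := by group
        _ = _ := by rw [h3]; group
    calc k * w1 = k * (l * c * l⁻¹) * c⁻¹ := by rw [hw1]; group
      _ = l * c * l⁻¹ * (c⁻¹ * (c * k) * c⁻¹) := by rw [h5]; group
      _ = _ := by rw [← h4, hw1]; group
  have hc : c = w1⁻¹ * (l * c * l⁻¹) := by rw [hw1]; group
  have hw' : l⁻¹ * w * l ∈ W q := by
    have := conj_mem_cj (g := l⁻¹) hw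
    rw [h.cj_W, inv_inv] at this
    have e : l⁻¹ * (l * q * l⁻¹) * l = q := by group
    rwa [e] at this
  have h6 : l * c * l⁻¹ * w = w * (l * c * l⁻¹) := by
    have h2 := Plane.mem_D_iff.1 hd q hq hq1 _ hw'
    calc l * c * l⁻¹ * w = l * (c * (l⁻¹ * w * l)) * l⁻¹ := by group
      _ = _ := by rw [h2]; group
  rcases h.K_fix p hp hp1 w1 w1W h1 with h2 | h2
  · rw [h2, inv_one, one_mul] at hc
    rw [hc]; exact h6
  · have h7 := h.comm_W hq hq1 (h.U_le q hq hq1 hp) hw'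
    have h8 : p * w = w * p := by
      calc p * w = l * p * l⁻¹ * w := by rw [hlp']
        _ = l * (p * (l⁻¹ * w * l)) * l⁻¹ := by group
        _ = l * (l⁻¹ * w * l) * (p * l⁻¹) := by rw [h7]; group
        _ = w * (l * p * l⁻¹) := by group
        _ = _ := by rw [hlp']
    rw [h2, h.inv_U hp] at hc
    rw [hc, mul_assoc, h6, ← mul_assoc, h8, mul_assoc]

/-- `D` is abelian -/
theorem D_comm (F : Frame U W K x0 x1 x2 f t a b) (h : Plane z U W K L) {d d' : G}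
    (hd : d ∈ centralizer (YU U W : Set G)) (hd' : d' ∈ centralizer (YU U W : Set G)) : d * d' = d' * d := by
  have key : ∀ p ∈ U, p ≠ 1 → d * d' * d⁻¹ * d'⁻¹ = 1 ∨ d * d' * d⁻¹ * d'⁻¹ = p := by
    intro p hp hp1
    refine F.K_trivial h hp hp1 (mul_mem (mul_mem (mul_mem hd hd') (inv_mem hd)) (inv_mem hd')) ?_
    intro k hk
    have cp : ∀ {x : G}, x ∈ centralizer (YU U W : Set G) → x * p = p * x :=
      fun hx => Plane.mem_D.1 hx p (h.U_le_Y hp)
    have e : ∀ {x : G}, x ∈ centralizer (YU U W : Set G) → ∃ u, u ∈ U ∧ k * x * k⁻¹ = u * x ∧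
        (∀ y ∈ centralizer (YU U W : Set G), y * u = u * y) := by
      intro x hx
      rcases F.comm_DK h hp hp1 hx hk with h1 | h1
      · exact ⟨1, one_mem _, by rw [← h1]; group, fun y _ => by group⟩
      · exact ⟨p, hp, by rw [← h1]; group, fun y hy => cp hy⟩
    obtain ⟨u, hu, e1, c1⟩ := e hd
    obtain ⟨v, hv, e2, c2⟩ := e hd'
    apply mul_inv_eq_iff_eq_mul.1
    have uv : u * v = v * u := h.comm_U hu hv
    calc k * (d * d' * d⁻¹ * d'⁻¹) * k⁻¹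
        = (k * d * k⁻¹) * (k * d' * k⁻¹) * (k * d * k⁻¹)⁻¹ * (k * d' * k⁻¹)⁻¹ := by group
      _ = u * (d * v) * (d' * d⁻¹) * u⁻¹ * d'⁻¹ * v⁻¹ := by rw [e1, e2]; group
      _ = u * v * (d * d' * d⁻¹ * u⁻¹) * d'⁻¹ * v⁻¹ := by rw [c2 d hd]; group
      _ = u * v * (u⁻¹ * (d * d' * d⁻¹)) * d'⁻¹ * v⁻¹ := by
          have : d * d' * d⁻¹ * u⁻¹ = u⁻¹ * (d * d' * d⁻¹) := by
            have := c1 _ (mul_mem (mul_mem hd hd') (inv_mem hd))
            calc d * d' * d⁻¹ * u⁻¹ = u⁻¹ * (u * (d * d' * d⁻¹)) * u⁻¹ := by group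
              _ = u⁻¹ * (d * d' * d⁻¹ * u) * u⁻¹ := by rw [this]
              _ = _ := by group
          rw [this]
      _ = v * (d * d' * d⁻¹ * d'⁻¹) * v⁻¹ := by
          rw [uv]; group
      _ = _ := by
          have := c2 _ (mul_mem (mul_mem (mul_mem hd hd') (inv_mem hd)) (inv_mem hd'))
          rw [← this]; group
  rcases key _ F.ind.p_mem F.ind.p_ne with h1 | h1
  · exact mul_inv_eq_iff_eq_mul.1 (mul_inv_eq_one.1 h1)
  · rcases key _ F.ind.q_mem F.ind.q_ne with h2 | h2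
    · exact mul_inv_eq_iff_eq_mul.1 (mul_inv_eq_one.1 h2)
    · exact absurd (h1.symm.trans h2) F.ind.pq

/-- `C(U)` centralises `D` -/
theorem C_comm_D (F : Frame U W K x0 x1 x2 f t a b) (h : Plane z U W K L) {c d : G}
    (hc : c ∈ centralizer (U : Set G)) (hd : d ∈ centralizer (YU U W : Set G)) : c * d = d * c := by
  obtain ⟨y, hy, e, he, rfl⟩ := F.C_eq_YD h hc
  rw [mul_assoc, F.D_comm h he hd, ← mul_assoc, ← Plane.mem_D.1 hd y hy, mul_assoc]

/-- `Ω₁(D)` -/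
def Om (F : Frame U W K x0 x1 x2 f t a b) (h : Plane z U W K L) : Subgroup G where
  carrier := {s | s ∈ centralizer (YU U W : Set G) ∧ s * s = 1}
  one_mem' := ⟨one_mem _, mul_one 1⟩
  mul_mem' := by
    rintro s r ⟨hs, ss⟩ ⟨hr, rr⟩
    refine ⟨mul_mem hs hr, ?_⟩
    calc s * r * (s * r) = s * (r * s) * r := by group
      _ = (s * s) * (r * r) := by rw [F.D_comm h hr hs]; group
      _ = 1 := by rw [ss, rr, one_mul]
  inv_mem' := by
    rintro s ⟨hs, ss⟩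
    refine ⟨inv_mem hs, ?_⟩
    rw [← mul_inv_rev, ss, inv_one]

theorem K3_num : ∀ c1 ∈ [2, 3], ∀ c2 ∈ [4, 5], ∀ n < 8, dot [1, c1, c2]
    (HU (dot [1, c1, c2] (HU (HU (HU (HU (dot [1, c1, c2] (HU (HU (HU (HU n))))))))))) = n := by decide

/-- the elements of `K x0` on `U` -/
theorem K3 (F : Frame U W K x0 x1 x2 f t a b) (h : Plane z U W K L) {k : G} (hk : k ∈ K x0) :
    k * (t * k * t⁻¹) * (t * (t * k * t⁻¹) * t⁻¹) ∈ centralizer (U : Set G) := by
  have i := F.ind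
  have W0 : ∀ {u : G}, u ∈ U → u ∈ W x0 := fun hu => h.U_le _ i.p_mem i.p_ne hu
  have k0 : k * x0 * k⁻¹ = io x0 x1 x2 1 := by
    rw [h.K_cent _ i.p_mem i.p_ne k hk, mul_inv_cancel_right, io_one]
  have k1 : k * x1 * k⁻¹ = io x0 x1 x2 2 ∨ k * x1 * k⁻¹ = io x0 x1 x2 3 := by
    rw [io_two, io_three, ← h.comm_U i.q_mem i.p_mem]
    exact h.K_act _ i.p_mem i.p_ne k hk _ (W0 i.q_mem)
  have k2 : k * x2 * k⁻¹ = io x0 x1 x2 4 ∨ k * x2 * k⁻¹ = io x0 x1 x2 5 := by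
    rw [io_four, io_five, ← h.comm_U i.w_mem i.p_mem]
    exact h.K_act _ i.p_mem i.p_ne k hk _ (W0 i.w_mem)
  have main : ∀ c1 c2 : ℕ, (c1 = 2 ∨ c1 = 3) → (c2 = 4 ∨ c2 = 5) → k * x1 * k⁻¹ = io x0 x1 x2 c1 →
      k * x2 * k⁻¹ = io x0 x1 x2 c2 →
      k * (t * k * t⁻¹) * (t * (t * k * t⁻¹) * t⁻¹) ∈ centralizer (U : Set G) := by
    intro c1 c2 hc1 hc2 e1 e2
    have kk := fun n => F.conj_io h k0 e1 e2 n
    rw [Plane.mem_C]
    intro u hu
    obtain ⟨n, hn, rfl⟩ := F.io_surj h hu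
    apply mul_inv_eq_iff_eq_mul.1
    have e3 : k * (t * k * t⁻¹) * (t * (t * k * t⁻¹) * t⁻¹) * io x0 x1 x2 n *
        (k * (t * k * t⁻¹) * (t * (t * k * t⁻¹) * t⁻¹))⁻¹ =
        k * (t * (k * (t⁻¹ * (t * (t * (k * (t⁻¹ * (t⁻¹ * io x0 x1 x2 n * t) * t) * k⁻¹) * t⁻¹) * t⁻¹) * t)
          * k⁻¹) * t⁻¹) * k⁻¹ := by
      simp only [mul_inv_rev, inv_inv, mul_assoc, inv_mul_cancel_left]
    have lt1 : ∀ n < 8, HU (HU n) < 8 := by decide
    have hlt : ∀ n < 8, HU n < 8 := by decide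
    have klt : ∀ n, dot [1, c1, c2] n < 8 := fun n => dot_closed (· < 8) (by norm_num)
      (fun a b ha hb => xor_lt ha hb) _ (by
        rcases hc1 with rfl | rfl <;> rcases hc2 with rfl | rfl <;> decide) n
    rw [e3, F.t_inv h hn, F.t_inv h (lt1 n hn), kk, F.conj_h h, F.conj_h h,
      F.t_inv h (hlt _ (hlt _ (klt _))), kk, F.conj_h h, kk]
    congr 1
    exact K3_num c1 (by simpa using hc1) c2 (by simpa using hc2) n hn
  rcases k1 with k1 | k1 <;> rcases k2 with k2 | k2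
  exacts [main _ _ (Or.inl rfl) (Or.inl rfl) k1 k2, main _ _ (Or.inl rfl) (Or.inr rfl) k1 k2,
    main _ _ (Or.inr rfl) (Or.inl rfl) k1 k2, main _ _ (Or.inr rfl) (Or.inr rfl) k1 k2]

/-- `C(Y) = U` -/
theorem D_eq (F : Frame U W K x0 x1 x2 f t a b) (h : Plane z U W K L) :
    centralizer (YU U W : Set G) ≤ U := by
  by_contra hcon
  obtain ⟨d, hd, hdU⟩ := SetLike.not_le_iff_exists.1 hcon
  -- an element `b'` of `D` outside `U` with square in `U`
  obtain ⟨b', hb', hbU, hb2⟩ : ∃ b' ∈ centralizer (YU U W : Set G), b' ∉ U ∧ b' * b' ∈ U := by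
    obtain ⟨m, hm⟩ := h.two ⟨d, h.D_le_C hd⟩
    have hm' : d ^ 2 ^ m = 1 := congrArg Subtype.val hm
    classical
    have hex : ∃ m, d ^ 2 ^ m ∈ U := ⟨m, by rw [hm']; exact one_mem _⟩
    have h1 := Nat.find_spec hex
    set n := Nat.find hex with hn
    have h0 : n ≠ 0 := by
      intro h0
      rw [h0, pow_zero, pow_one] at h1
      exact hdU h1
    refine ⟨d ^ 2 ^ (n - 1), pow_mem hd _, Nat.find_min hex (by omega), ?_⟩
    have : d ^ 2 ^ (n - 1) * d ^ 2 ^ (n - 1) = d ^ 2 ^ n := by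
      rw [← pow_add, ← two_mul, ← pow_succ']
      congr 2; omega
    rw [this]; exact h1
  -- `b'` is an involution
  have hbb : b' * b' = 1 := by
    obtain ⟨m, hm, e⟩ := F.io_surj h hb2
    have h1 := F.nf.D b' hb'
    set u := f * b' * f⁻¹ * b'⁻¹ with hu
    have h2 : b' * u = u * b' := Plane.mem_D.1 hb' u (h.U_le_Y h1)
    have h3 : f * (b' * b') * f⁻¹ = b' * b' := by
      calc f * (b' * b') * f⁻¹ = (f * b' * f⁻¹ * b'⁻¹) * b' * ((f * b' * f⁻¹ * b'⁻¹) * b') := by group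
        _ = u * (b' * u) * b' := by rw [← hu]; group
        _ = (u * u) * (b' * b') := by rw [h2]; group
        _ = _ := by rw [h.sq_U u h1, one_mul]
    rw [e, F.conj_f h] at h3
    have lt : ∀ m < 8, FU m < 8 := by decide
    have h4 := F.io_inj h (lt m hm) hm h3
    have key : ∀ m < 8, FU m = m → m = 0 := by decide
    rw [e, key m hm h4, io_zero]
  obtain ⟨g, hg, hft⟩ := F.ft_eq h
  have hS : ∀ {s : G}, s ∈ Om F h ↔ s ∈ centralizer (YU U W : Set G) ∧ s * s = 1 := Iff.rfl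
  have cS : ∀ {g s : G}, (∀ u ∈ U, g⁻¹ * u * g ∈ U) → s ∈ Om F h → g * s * g⁻¹ ∈ Om F h := by
    intro g s hg hs
    rw [hS] at hs ⊢
    refine ⟨h.conj_D hg hs.1, ?_⟩
    calc g * s * g⁻¹ * (g * s * g⁻¹) = g * (s * s) * g⁻¹ := by group
      _ = 1 := by rw [hs.2]; group
  obtain ⟨c₂, hc₂, ⟨s, hs, m, hm, e⟩, h1, h2⟩ := exists_fixed (S := Om F h)
    (M := ⊥) (T := U) (f := f) (t := t)
    (fun s hs => cS F.nf.nU' hs) (fun s hs => cS F.nh.nU' hs)
    (by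
      intro s _ m hm
      rw [mem_bot] at hm ⊢
      rw [hm]; group)
    F.nf.nU F.nh.nU
    (by
      intro s hs m hm
      rw [Plane.conj_C (h.D_le_C (hS.1 hs).1) hm]; exact hm)
    (by
      intro s hs s' hs'
      rw [mem_bot, F.D_comm h (hS.1 hs).1 (hS.1 hs').1]; group)
    (fun s hs => mem_bot.2 (hS.1 hs).2)
    (fun s hs => F.nf.D s (hS.1 hs).1) (fun s hs => F.nh.D s (hS.1 hs).1) F.f7
    (by
      intro s hs
      rw [mem_bot, F.C_comm_D h (F.t3_mem h) (hS.1 hs).1]; group)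
    (by
      intro s hs hfs
      rw [mem_bot, mul_inv_eq_one] at hfs
      rw [mem_bot, mul_inv_eq_one]
      have h4 : f ^ 4 * s * (f ^ 4)⁻¹ = s := by
        calc f ^ 4 * s * (f ^ 4)⁻¹ = f * (f * (f * (f * s * f⁻¹) * f⁻¹) * f⁻¹) * f⁻¹ := by
              simp only [pow_succ, pow_zero]; group
          _ = s := by rw [hfs, hfs, hfs, hfs]
      have h5 := F.C_comm_D h hg (hS.1 hs).1
      calc f * (t * s * t⁻¹) * f⁻¹ = (f * t) * s * (f * t)⁻¹ := by group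
        _ = t * (g * (f ^ 4 * s * (f ^ 4)⁻¹) * g⁻¹) * t⁻¹ := by rw [hft]; group
        _ = t * (g * s * g⁻¹) * t⁻¹ := by rw [h4]
        _ = _ := by rw [h5]; group)
    (c := b') ⟨hb', hbb⟩
  rw [mem_bot] at hm
  rw [mem_bot, mul_inv_eq_one] at h1 h2
  have hc₂D := (hS.1 hc₂).1
  have hc₂U : c₂ ∉ U := by
    intro h3
    apply hbU
    rw [hm, mul_one] at e
    have : b' = s⁻¹ * c₂ := by rw [e]; group
    rw [this]; exact mul_mem (inv_mem hs) h3
  have p0 := F.ind.p_mem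
  have p1 := F.ind.p_ne
  have h3 : c₂ = 1 ∨ c₂ = x0 := by
    refine F.K_trivial h p0 p1 hc₂D ?_
    intro k hk
    rcases F.comm_DK h p0 p1 hc₂D hk with h4 | h4
    · exact mul_inv_eq_iff_eq_mul.1 (mul_inv_eq_one.1 h4)
    · exfalso
      have a0 : k * c₂ * k⁻¹ = x0 * c₂ := mul_inv_eq_iff_eq_mul.1 h4
      have kx : k * x0 * k⁻¹ = x0 := by rw [h.K_cent _ p0 p1 k hk, mul_inv_cancel_right]
      have tx : t * x0 * t⁻¹ = x0 := F.h0
      have st : ∀ k : G, k * c₂ * k⁻¹ = x0 * c₂ ∧ k * x0 * k⁻¹ = x0 →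
          (t * k * t⁻¹) * c₂ * (t * k * t⁻¹)⁻¹ = x0 * c₂ ∧ (t * k * t⁻¹) * x0 * (t * k * t⁻¹)⁻¹ = x0 := by
        rintro k ⟨e1, e2⟩
        have tc : t⁻¹ * c₂ * t = c₂ := by
          calc t⁻¹ * c₂ * t = t⁻¹ * (t * c₂ * t⁻¹) * t := by rw [h2]
            _ = c₂ := by group
        have tx' : t⁻¹ * x0 * t = x0 := by
          calc t⁻¹ * x0 * t = t⁻¹ * (t * x0 * t⁻¹) * t := by rw [tx]
            _ = x0 := by group
        constructor
        · calc (t * k * t⁻¹) * c₂ * (t * k * t⁻¹)⁻¹ = t * (k * (t⁻¹ * c₂ * t) * k⁻¹) * t⁻¹ := by group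
            _ = (t * x0 * t⁻¹) * (t * c₂ * t⁻¹) := by rw [tc, e1]; group
            _ = _ := by rw [tx, h2]
        · calc (t * k * t⁻¹) * x0 * (t * k * t⁻¹)⁻¹ = t * (k * (t⁻¹ * x0 * t) * k⁻¹) * t⁻¹ := by group
            _ = x0 := by rw [tx', e2, tx]
      have a1 := st k ⟨a0, kx⟩
      have a2 := st _ a1
      have h5 := F.C_comm_D h (F.K3 h hk) hc₂D
      set k1 := t * k * t⁻¹ with hk1
      set k2 := t * k1 * t⁻¹ with hk2
      have h6 : k * k1 * k2 * c₂ * (k * k1 * k2)⁻¹ = x0 * (x0 * (x0 * c₂)) := by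
        calc k * k1 * k2 * c₂ * (k * k1 * k2)⁻¹ = k * (k1 * (k2 * c₂ * k2⁻¹) * k1⁻¹) * k⁻¹ := by group
          _ = k * ((k1 * x0 * k1⁻¹) * (k1 * c₂ * k1⁻¹)) * k⁻¹ := by rw [a2.1]; group
          _ = (k * x0 * k⁻¹) * (k * x0 * k⁻¹) * (k * c₂ * k⁻¹) := by rw [a1.1, a1.2]; group
          _ = _ := by rw [kx, a0]; group
      rw [h5, mul_inv_cancel_right, ← mul_assoc, h.sq_U _ p0, one_mul] at h6
      exact p1 (right_eq_mul.1 h6)
  rcases h3 with h3 | h3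
  · exact hc₂U (by rw [h3]; exact one_mem _)
  · exact hc₂U (by rw [h3]; exact p0)

/-- `C(U) = Y` -/
theorem C_eq (F : Frame U W K x0 x1 x2 f t a b) (h : Plane z U W K L) :
    centralizer (U : Set G) = YU U W := by
  refine le_antisymm ?_ h.Y_le
  intro c hc
  obtain ⟨y, hy, d, hd, rfl⟩ := F.C_eq_YD h hc
  exact mul_mem hy (h.U_le_Y (F.D_eq h hd))

end Frame

end Cfsg.Agent.Omega.NOThree.Ru

end

section


/-!
# The plane configuration: the second class (section 4 of helper881's text #12858)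

`Plane.second` : there is an involution `v` which is not conjugate to `z`, such that each involution of `C(v)` is in
`U` or has all its conjugates of `z` in `U`.
-/

set_option autoImplicit false

namespace Cfsg.Agent.Omega.NOThree.Ru

open Subgroup Cfsg Cfsg.Agent.MinSimple.Geo Code Cfsg.Agent.Omega.NOThree.Ru.Norm
open Cfsg.Agent.ZN (o2)
open Cfsg.Agent.MinSimple.VModule (o2_isPGroup o2_le le_normalizer_o2)

universe u

variable {G : Type u} [Group G]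

/-- the codes of the elements of `F` -/
def V3 : List ℕ := [61, 146, 175]

/-- the codes of the elements of `F U` -/
def V4 : List ℕ := [0, 61, 146, 175]

/-- the codes of the elements of `F` and the commutators with the generators -/
def CV : List (ℕ × List ℕ) :=
  [(61, [3, 6, 6, 7, 7, 5, 5, 1, 1, 2, 2, 4, 4, 3]), (146, [7, 5, 5, 1, 1, 2, 2, 4, 4, 3, 3, 6, 6, 7]),
    (175, [4, 3, 3, 6, 6, 7, 7, 5, 5, 1, 1, 2, 2, 4])]

theorem CV_eq : ∀ x ∈ CV, ∀ k < 14, Bf T8 x.1 (R8.getD k 0) = x.2.getD k 0 := by decide +kernel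

theorem exists_CV : ∀ s ∈ V3, ∃ x ∈ CV, x.1 = s := by decide +kernel

/-- the commutators with `W (x m)` -/
def Hl (l : List ℕ) (m : ℕ) : List ℕ :=
  [0, l.getD (2 * m) 0, l.getD (2 * m + 1) 0, l.getD (2 * m) 0 ^^^ l.getD (2 * m + 1) 0]

/-- the condition on an element of `GL(U)` -/
def okf (l : List ℕ) (i j k : ℕ) : Bool :=
  (List.range 7).all fun m => (List.range 7).any fun m' => decide (dot [i, j, k] (X m) = X m') &&
    (decide (dot [i, j, k] (l.getD (2 * m) 0) ∈ Hl l m') &&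
      decide (dot [i, j, k] (l.getD (2 * m + 1) 0) ∈ Hl l m'))

/-- a power of `f` -/
def shf (i j k : ℕ) : Bool :=
  (List.range 7).any fun e => (List.range 7).all fun m => decide (dot [i, j, k] (X m) = X (m + e))

theorem okf_shf : ∀ x ∈ CV, ∀ i < 8, ∀ j < 8, ∀ k < 8, okf x.2 i j k = true → shf i j k = true := by
  decide +kernel

theorem only_f (x : ℕ × List ℕ) (hx : x ∈ CV) (i : ℕ) (hi : i < 8) (j : ℕ) (hj : j < 8) (k : ℕ) (hk : k < 8)
    (h : ∀ m < 7, ∃ m' < 7, dot [i, j, k] (X m) = X m' ∧ dot [i, j, k] (x.2.getD (2 * m) 0) ∈ Hl x.2 m' ∧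
      dot [i, j, k] (x.2.getD (2 * m + 1) 0) ∈ Hl x.2 m') :
    ∃ e < 7, ∀ m < 7, dot [i, j, k] (X m) = X (m + e) := by
  have h1 : okf x.2 i j k = true := by
    simp only [okf, List.all_eq_true, List.any_eq_true, List.mem_range, Bool.and_eq_true, decide_eq_true_eq]
    exact h
  have h2 := okf_shf x hx i hi j hj k hk h1
  simp only [shf, List.all_eq_true, List.any_eq_true, List.mem_range, decide_eq_true_eq] at h2
  exact h2

theorem exists_norm_grow [Finite G] {P R : Subgroup G} (hR : IsPGroup 2 R) (hle : P ≤ R)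
    (hne : P ≠ R) : ∃ n ∈ R, n ∉ P ∧ ∀ x ∈ P, n * x * n⁻¹ ∈ P := by
  have hfact : Fact (Nat.Prime 2) := ⟨Nat.prime_two⟩
  have hnil : Group.IsNilpotent R := hR.isNilpotent
  have hnc : NormalizerCondition R := Group.normalizerCondition_of_isNilpotent
  have hlt : P.subgroupOf R < ⊤ := by
    rw [lt_top_iff_ne_top]
    intro h
    rw [subgroupOf_eq_top] at h
    exact hne (le_antisymm hle h)
  have h1 := hnc _ hlt
  obtain ⟨n, hn, hn'⟩ := SetLike.exists_of_lt h1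
  refine ⟨n, n.2, fun h => hn' (mem_subgroupOf.2 h), fun x hx => ?_⟩
  have h2 := (mem_normalizer_iff.1 hn ⟨x, hle hx⟩).1 (mem_subgroupOf.2 hx)
  exact mem_subgroupOf.1 h2

namespace Frame

variable {z : G} {U : Subgroup G} {W K L : G → Subgroup G} {x0 x1 x2 f t a b : G}

theorem X_mod (m : ℕ) : X (m % 7) = X m := by
  unfold X; rw [Nat.mod_mod]

/-- an element of `F` with a given code -/
theorem exists_v (F : Frame U W K x0 x1 x2 f t a b) (h : Plane z U W K L) {s : ℕ} (hs : s ∈ V3) :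
    ∃ v, Cd (io x0 x1 x2) (g8 f a b) v s ∧ f * v * f⁻¹ = v := by
  have hx := F.io_xor h
  have h1 : Cd (io x0 x1 x2) (g8 f a b) (elt (g8 f a b) s) s := Cd.elt hx s
  have h2 := F.conj_f8 h h1
  have h3 : dot F8 s = s := by
    have : ∀ s ∈ V3, dot F8 s = s := by decide
    exact this s hs
  rw [h3] at h2
  obtain ⟨c, hc⟩ := h2
  -- reduce `c` modulo 8
  obtain ⟨d, hd, e⟩ := F.io_surj h (F.io_mem c)
  rw [e] at hc
  have h4 : ∀ d < 8, ∃ m < 8, d ^^^ FU m ^^^ m = 0 := by decide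
  obtain ⟨m, -, hm⟩ := h4 d hd
  refine ⟨elt (g8 f a b) s * io x0 x1 x2 m, h1.mul_iota hx m, ?_⟩
  calc f * (elt (g8 f a b) s * io x0 x1 x2 m) * f⁻¹ =
      (f * elt (g8 f a b) s * f⁻¹) * (f * io x0 x1 x2 m * f⁻¹) := by group
    _ = elt (g8 f a b) s * (io x0 x1 x2 d * io x0 x1 x2 (FU m)) := by rw [hc, F.conj_f h, mul_assoc]
    _ = elt (g8 f a b) s * io x0 x1 x2 m := by
        rw [← hx]
        have : d ^^^ FU m = m := Nat.xor_eq_zero_iff.1 hm
        rw [this]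

section V

variable (F : Frame U W K x0 x1 x2 f t a b) (h : Plane z U W K L) {s : ℕ} (hs : s ∈ V3) {v : G}
  (hv : Cd (io x0 x1 x2) (g8 f a b) v s) (hfv : f * v * f⁻¹ = v)

include F h hs hv

omit hs in
theorem v_Y : v ∈ YU U W := F.mem_Y_of_code h hv

theorem v_sq : v * v = 1 := by
  rw [hv.sq (F.io_xor h) (F.good8 h)]
  have : ∀ s ∈ V3, Qf T8 s = 0 := by decide
  rw [this s hs, io_zero]

theorem v_ne : v ≠ 1 := by
  intro e
  have h1 : s < 256 := by
    have : ∀ s ∈ V3, s < 256 := by decide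
    exact this s hs
  have h2 := (F.code_U h h1 hv).1 (by rw [e]; exact one_mem _)
  have : ∀ s ∈ V3, s ≠ 0 := by decide
  exact this s hs h2

/-- the elements of `C_Y(v)` -/
theorem comm_v_iff {y : G} {n : ℕ} (hn : n < 256) (hy : Cd (io x0 x1 x2) (g8 f a b) y n) :
    y * v = v * y ↔ Bf T8 n 61 = 0 := by
  have e := hy.comm (F.io_xor h) (F.good8 h) hv
  have h1 : ∀ s ∈ V3, ∀ n < 256, Bf T8 n s = 0 ↔ Bf T8 n 61 = 0 := by decide +kernel
  rw [← h1 s hs n hn]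
  constructor
  · intro h2
    rw [h2] at e
    exact (F.io_eq_one h (Bf8_lt _ _)).1 (left_eq_mul.1 e)
  · intro h2
    rw [h2, io_zero, mul_one] at e
    exact e

/-- an element of `C_G(v)` which normalises `U` and has order a power of two lies in `Y` -/
theorem mem_Y_of_norm {g : G} (hgv : g * v = v * g) (hg : ∀ u ∈ U, g * u * g⁻¹ ∈ U) {k : ℕ}
    (hk : g ^ 2 ^ k = 1) : g ∈ YU U W := by
  have hx := F.io_xor h
  have hT8 := F.good8 h
  obtain ⟨i, hi, e0⟩ := F.io_surj h (hg _ F.ind.p_mem)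
  obtain ⟨j, hj, e1⟩ := F.io_surj h (hg _ F.ind.q_mem)
  obtain ⟨l, hl, e2⟩ := F.io_surj h (hg _ F.ind.w_mem)
  have act := fun n => F.conj_io h e0 e1 e2 n
  have alt : ∀ n, dot [i, j, l] n < 8 := fun n => dot_closed (· < 8) (by norm_num)
    (fun a b ha hb => xor_lt ha hb) _ (by
      intro c hc
      simp only [List.mem_cons, List.not_mem_nil, or_false] at hc
      rcases hc with rfl | rfl | rfl <;> assumption) n
  obtain ⟨x, hx', rfl⟩ := exists_CV s hs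
  have hgv' : g * v * g⁻¹ = v := by rw [hgv, mul_inv_cancel_right]
  -- commutators of `v` with the generators
  have cE : ∀ k < 14, v * E f a b k * v⁻¹ * (E f a b k)⁻¹ = io x0 x1 x2 (x.2.getD k 0) := by
    intro k hk
    have e := hv.comm hx hT8 (F.E_cd8 h hk)
    rw [CV_eq x hx' k hk] at e
    have e3 := h.Y_comm (mul_mem (F.E_Y h k) (F.v_Y h hv)) (F.io_mem (x.2.getD k 0))
    rw [e3] at e
    rw [e]; group
  have xlt : ∀ x ∈ CV, ∀ k < 14, x.2.getD k 0 < 8 := by decide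
  -- the commutators of `v` with `W`
  have cW : ∀ m' < 7, ∀ w ∈ W (io x0 x1 x2 (X m')), ∃ c ∈ Hl x.2 m', v * w * v⁻¹ * w⁻¹ = io x0 x1 x2 c := by
    intro m' hm' w hw
    obtain ⟨u, hu, e⟩ := F.W_gen h m' hw
    have cA := cE (2 * m') (by omega)
    have cB := cE (2 * m' + 1) (by omega)
    rw [E_even] at cA
    rw [E_odd] at cB
    have vu : v * u * v⁻¹ = u := Plane.conj_C (h.Y_le (F.v_Y h hv)) hu
    have mU : ∀ w : G, v * (w * u) * v⁻¹ * (w * u)⁻¹ = v * w * v⁻¹ * w⁻¹ := by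
      intro w
      calc v * (w * u) * v⁻¹ * (w * u)⁻¹ = v * w * v⁻¹ * (v * u * v⁻¹) * u⁻¹ * w⁻¹ := by group
        _ = _ := by rw [vu]; group
    rcases e with rfl | rfl | rfl | rfl
    · exact ⟨0, by simp [Hl], by rw [vu, mul_inv_cancel, io_zero]⟩
    · exact ⟨x.2.getD (2 * m') 0, by simp [Hl], by rw [mU, cA]⟩
    · exact ⟨x.2.getD (2 * m' + 1) 0, by simp [Hl], by rw [mU, cB]⟩
    · refine ⟨x.2.getD (2 * m') 0 ^^^ x.2.getD (2 * m' + 1) 0, by simp [Hl], ?_⟩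
      rw [mU, hx, ← cA]
      have e4 : v * A f b m' * v⁻¹ = io x0 x1 x2 (x.2.getD (2 * m' + 1) 0) * A f b m' := by rw [← cB]; group
      have e5 : (A f a m')⁻¹ * io x0 x1 x2 (x.2.getD (2 * m' + 1) 0) =
          io x0 x1 x2 (x.2.getD (2 * m' + 1) 0) * (A f a m')⁻¹ :=
        h.Y_comm (inv_mem (h.W_le_Y (F.io_mem _) (F.pt h _) (F.A_mem h m'))) (F.io_mem _)
      calc v * (A f a m' * A f b m') * v⁻¹ * (A f a m' * A f b m')⁻¹
          = v * A f a m' * v⁻¹ * (v * A f b m' * v⁻¹) * (A f b m')⁻¹ * (A f a m')⁻¹ := by group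
        _ = v * A f a m' * v⁻¹ * (io x0 x1 x2 (x.2.getD (2 * m' + 1) 0) * (A f a m')⁻¹) := by
            rw [e4]; group
        _ = _ := by rw [← e5]; group
  -- the condition of `only_f`
  obtain ⟨e, he, hact⟩ := only_f x hx' i hi j hj l hl (by
    intro m hm
    -- the image of the point
    have hne : dot [i, j, l] (X m) ≠ 0 := by
      intro h0
      have h1 := act (X m)
      rw [h0, io_zero] at h1
      apply F.pt h m
      calc io x0 x1 x2 (X m) = g⁻¹ * (g * io x0 x1 x2 (X m) * g⁻¹) * g := by group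
        _ = 1 := by rw [h1]; group
    have hex : ∀ n < 8, n ≠ 0 → ∃ j < 7, n = X j := by decide +kernel
    obtain ⟨m', hm', e3⟩ := hex _ (alt _) hne
    refine ⟨m', hm', e3, ?_⟩
    have key : ∀ w ∈ W (io x0 x1 x2 (X m)), ∀ c < 8, v * w * v⁻¹ * w⁻¹ = io x0 x1 x2 c →
        dot [i, j, l] c ∈ Hl x.2 m' := by
      intro w hw c _ e4
      have hw' : g * w * g⁻¹ ∈ W (io x0 x1 x2 (X m')) := by
        have := conj_mem_cj (g := g) hw
        rwa [h.cj_W, act, e3] at this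
      obtain ⟨d, hd, e5⟩ := cW m' hm' _ hw'
      have e6 : v * (g * w * g⁻¹) * v⁻¹ * (g * w * g⁻¹)⁻¹ = io x0 x1 x2 (dot [i, j, l] c) := by
        rw [← act, ← e4]
        calc v * (g * w * g⁻¹) * v⁻¹ * (g * w * g⁻¹)⁻¹
            = (g * v * g⁻¹) * (g * w * g⁻¹) * (g * v * g⁻¹)⁻¹ * (g * w * g⁻¹)⁻¹ := by rw [hgv']
          _ = _ := by group
      have hd8 : d < 8 := by
        have hH : ∀ x ∈ CV, ∀ m < 7, ∀ d ∈ Hl x.2 m, d < 8 := by decide +kernel
        exact hH x hx' m' hm' d hd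
      rw [F.io_inj h (alt c) hd8 (e6.symm.trans e5)]
      exact hd
    constructor
    · have := cE (2 * m) (by omega)
      rw [E_even] at this
      exact key _ (F.A_mem h m) _ (xlt x hx' _ (by omega)) this
    · have := cE (2 * m + 1) (by omega)
      rw [E_odd] at this
      exact key _ (F.B_mem h m) _ (xlt x hx' _ (by omega)) this)
  -- `g` acts as `f ^ e`
  have h1 : ∀ m, g * io x0 x1 x2 (X m) * g⁻¹ = io x0 x1 x2 (X (m + e)) := by
    intro m
    rw [act, ← X_mod m, hact _ (Nat.mod_lt _ (by norm_num)), ← X_mod (m % 7 + e), Nat.mod_add_mod, X_mod]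
  have h2 : ∀ n m, g ^ n * io x0 x1 x2 (X m) * (g ^ n)⁻¹ = io x0 x1 x2 (X (m + n * e)) := by
    intro n
    induction n with
    | zero => intro m; simp
    | succ n ih =>
      intro m
      calc g ^ (n + 1) * io x0 x1 x2 (X m) * (g ^ (n + 1))⁻¹
          = g ^ n * (g * io x0 x1 x2 (X m) * g⁻¹) * (g ^ n)⁻¹ := by rw [pow_succ]; group
        _ = _ := by rw [h1, ih]; congr 2; ring
  have h7 : g ^ 7 ∈ YU U W := by
    rw [← F.C_eq h, Plane.mem_C]
    intro u hu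
    by_cases hu1 : u = 1
    · rw [hu1, mul_one, one_mul]
    · obtain ⟨m, -, rfl⟩ := F.exists_X h hu hu1
      apply mul_inv_eq_iff_eq_mul.1
      rw [h2 7 m, ← X_mod (m + 7 * e), Nat.add_mul_mod_self_left, X_mod]
  have h8 : ∃ j, 8 ^ k = 7 * j + 1 := by
    have : 8 ^ k % 7 = 1 := by rw [Nat.pow_mod]; norm_num
    exact ⟨8 ^ k / 7, by omega⟩
  obtain ⟨r, hr⟩ := h8
  have e8 : (g ^ 7) ^ r * g = 1 := by
    rw [← pow_mul, ← pow_succ, ← hr]
    calc g ^ 8 ^ k = (g ^ 2 ^ k) ^ 4 ^ k := by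
          rw [← pow_mul]
          congr 1
          rw [show (8 : ℕ) = 2 * 4 by norm_num, mul_pow]
      _ = 1 := by rw [hk, one_pow]
  have e9 : g = ((g ^ 7) ^ r)⁻¹ := (inv_eq_of_mul_eq_one_right e8).symm
  rw [e9]
  exact inv_mem (pow_mem h7 r)

omit hs hv in
/-- an element which normalises `C_Y(v)` normalises `U` -/
theorem norm_U {v : G} {s : ℕ} (hs : s ∈ V3) (hv : Cd (io x0 x1 x2) (g8 f a b) v s) {g : G}
    (hg : ∀ y ∈ YU U W, y * v = v * y → g * y * g⁻¹ ∈ YU U W) : ∀ u ∈ U, g * u * g⁻¹ ∈ U := by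
  have hx := F.io_xor h
  have hT8 := F.good8 h
  intro u hu
  obtain ⟨c, hc, rfl⟩ := F.io_surj h hu
  have key : ∀ c < 8, ∃ n ∈ [6, 24, 30, 67, 69, 91], ∃ m ∈ [6, 24, 30, 67, 69, 91],
      Bf T8 n 61 = 0 ∧ Bf T8 m 61 = 0 ∧ n < 256 ∧ m < 256 ∧ Bf T8 n m = c := by decide +kernel
  obtain ⟨n, -, m, -, h1, h2, hn, hm, e⟩ := key c hc
  have cn : Cd (io x0 x1 x2) (g8 f a b) (elt (g8 f a b) n) n := Cd.elt hx n
  have cm : Cd (io x0 x1 x2) (g8 f a b) (elt (g8 f a b) m) m := Cd.elt hx m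
  set y := elt (g8 f a b) n with hy
  set y' := elt (g8 f a b) m with hy'
  have e1 := cn.comm hx hT8 cm
  rw [e] at e1
  have yY := F.mem_Y_of_code h cn
  have yY' := F.mem_Y_of_code h cm
  have k1 := hg y yY ((F.comm_v_iff h hs hv hn cn).2 h1)
  have k2 := hg y' yY' ((F.comm_v_iff h hs hv hm cm).2 h2)
  have e3 : io x0 x1 x2 c = y * y' * y⁻¹ * y'⁻¹ := by
    rw [h.Y_comm (mul_mem yY' yY) (F.io_mem c)] at e1
    rw [e1]; group
  rw [e3]
  have e4 : g * (y * y' * y⁻¹ * y'⁻¹) * g⁻¹ =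
      (g * y * g⁻¹) * (g * y' * g⁻¹) * (g * y * g⁻¹)⁻¹ * (g * y' * g⁻¹)⁻¹ := by group
  rw [e4]
  exact h.comm_YY k1 k2

include hfv

/-- the involutions of `C_G(v)` lie in `F U` -/
theorem invol [Finite G] (hc : IsCharacteristicTwoType G) {i : G} (hi : i * i = 1) (hiv : i * v = v * i) :
    ∃ n ∈ V4, Cd (io x0 x1 x2) (g8 f a b) i n := by
  have hx := F.io_xor h
  have hT8 := F.good8 h
  have hvY := F.v_Y h hv
  set C := centralizer ({v} : Set G) with hC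
  have memC : ∀ {g : G}, g ∈ C ↔ g * v = v * g := fun {g} => by
    rw [hC, mem_centralizer_singleton_iff]
  set O := o2 C with hO
  set T := YU U W ⊓ C with hT
  have OC : O ≤ C := o2_le C
  have O2 : IsPGroup 2 O := o2_isPGroup C
  have hch : C ⊓ centralizer (O : Set G) ≤ O :=
    inf_centralizer_o2_le hc (isTwoLocal_centralizer (F.v_sq h hs hv) (F.v_ne h hs hv))
  have Y2 : IsPGroup 2 (YU U W) := by
    rw [← F.C_eq h]; exact h.two
  have T2 : IsPGroup 2 T := Y2.to_le inf_le_left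
  have nO : C ≤ normalizer (O : Set G) := le_normalizer_o2 C
  -- elements of `C` of 2-power order which normalise `T` lie in `T`
  have step : ∀ g ∈ C, (∀ y ∈ T, g * y * g⁻¹ ∈ T) → (∃ k : ℕ, g ^ 2 ^ k = 1) → g ∈ T := by
    rintro g hg hgT ⟨k, hk⟩
    refine ⟨F.mem_Y_of_norm h hs hv (memC.1 hg) (F.norm_U h hs hv ?_) hk, hg⟩
    intro y hy hyv
    exact (hgT y ⟨hy, memC.2 hyv⟩).1
  -- `O ≤ T`
  have OT : O ≤ T := by
    have hA : IsPGroup 2 (T ⊔ O : Subgroup G) :=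
      T2.to_sup_of_normal_right' O2 (inf_le_right.trans nO)
    have hAC : T ⊔ O ≤ C := sup_le inf_le_right OC
    by_cases hne : T = T ⊔ O
    · rw [hne]; exact le_sup_right
    · obtain ⟨r, hr, hrT, hr2⟩ := exists_norm_grow hA le_sup_left hne
      refine absurd (step r (hAC hr) hr2 ?_) hrT
      obtain ⟨k, hk⟩ := hA ⟨r, hr⟩
      exact ⟨k, congrArg Subtype.val hk⟩
  -- codes of the elements of `T`
  have Tcode : ∀ y ∈ T, ∃ n < 256, Cd (io x0 x1 x2) (g8 f a b) y n ∧ Bf T8 n 61 = 0 := by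
    rintro y ⟨hy, hyC⟩
    obtain ⟨n, hn, hcd⟩ := F.code8 h hy
    exact ⟨n, hn, hcd, (F.comm_v_iff h hs hv hn hcd).1 (memC.1 hyC)⟩
  have Tof : ∀ {y n}, n < 256 → Cd (io x0 x1 x2) (g8 f a b) y n → Bf T8 n 61 = 0 → y ∈ T := by
    intro y n hn hcd h0
    exact ⟨F.mem_Y_of_code h hcd, memC.2 ((F.comm_v_iff h hs hv hn hcd).2 h0)⟩
  have V4c : ∀ s ∈ V4, ∀ n < 256, Bf T8 n 61 = 0 → Bf T8 n s = 0 := by decide +kernel
  have V4T : ∀ s ∈ V4, s < 256 ∧ Bf T8 s 61 = 0 := by decide +kernel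
  have commFU : ∀ {y s' : G} {n c : ℕ}, n < 256 → Cd (io x0 x1 x2) (g8 f a b) y n → Bf T8 n 61 = 0 → c ∈ V4 →
      Cd (io x0 x1 x2) (g8 f a b) s' c → y * s' = s' * y := by
    intro y s' n c hn hy h0 hc' hs'
    have := hy.comm hx hT8 hs'
    rw [V4c c hc' n hn h0, io_zero, mul_one] at this
    exact this
  -- `F U ≤ O`
  have FUO : ∀ {y n}, n ∈ V4 → Cd (io x0 x1 x2) (g8 f a b) y n → y ∈ O := by
    intro y n hn hcd
    refine hch ⟨(Tof (V4T n hn).1 hcd (V4T n hn).2).2, mem_centralizer_iff.2 ?_⟩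
    intro o ho
    obtain ⟨m, hm, hcm, h0⟩ := Tcode o (OT ho)
    exact commFU hm hcm h0 hn hcd
  -- `O ≠ F U`
  obtain ⟨o, ho, n, hn, hcn, hn4, h0⟩ : ∃ o ∈ O, ∃ n < 256, Cd (io x0 x1 x2) (g8 f a b) o n ∧ n ∉ V4 ∧
      Bf T8 n 61 = 0 := by
    by_contra hcon
    have hall : ∀ o ∈ O, ∃ n ∈ V4, Cd (io x0 x1 x2) (g8 f a b) o n := by
      intro o ho
      obtain ⟨m, hm, hcm, h0⟩ := Tcode o (OT ho)
      by_contra h1
      exact hcon ⟨o, ho, m, hm, hcm, fun h2 => h1 ⟨m, h2, hcm⟩, h0⟩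
    have c6 : Cd (io x0 x1 x2) (g8 f a b) (elt (g8 f a b) 6) 6 := Cd.elt hx 6
    have h6 : Bf T8 6 61 = 0 := by decide +kernel
    have hT6 := Tof (by norm_num) c6 h6
    have hO6 : elt (g8 f a b) 6 ∈ O := by
      refine hch ⟨hT6.2, mem_centralizer_iff.2 ?_⟩
      intro o ho
      obtain ⟨n, hn, hcn⟩ := hall o ho
      exact (commFU (by norm_num) c6 h6 hn hcn).symm
    obtain ⟨n, hn, hcn⟩ := hall _ hO6
    have := F.code_unique h (by norm_num) (V4T n hn).1 c6 hcn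
    rw [← this] at hn
    revert hn
    decide
  -- `T ≤ O`
  have fC : f ∈ C := memC.2 (mul_inv_eq_iff_eq_mul.1 hfv)
  have conjO : ∀ {x : G}, x ∈ O → f * x * f⁻¹ ∈ O := fun {x} hx =>
    (mem_normalizer_iff.1 (nO fC) x).1 hx
  have TO : T ≤ O := by
    intro y hy
    obtain ⟨m, hm, hcm, hm0⟩ := Tcode y hy
    by_cases hm4 : m ∈ V4
    · exact FUO hm4 hcm
    · have key : ∀ n ∈ (List.range 256).filter (fun n => Bf T8 n 61 = 0 ∧ n ∉ V4),
          ∀ m ∈ (List.range 256).filter (fun n => Bf T8 n 61 = 0 ∧ n ∉ V4),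
          m ^^^ n ∈ V4 ∨ m ^^^ dot F8 n ∈ V4 ∨ m ^^^ dot F8 (dot F8 n) ∈ V4 ∨
            m ^^^ dot F8 (dot F8 (dot F8 n)) ∈ V4 ∨ m ^^^ dot F8 (dot F8 (dot F8 (dot F8 n))) ∈ V4 ∨
            m ^^^ dot F8 (dot F8 (dot F8 (dot F8 (dot F8 n)))) ∈ V4 ∨
            m ^^^ dot F8 (dot F8 (dot F8 (dot F8 (dot F8 (dot F8 n))))) ∈ V4 := by decide +kernel
      have hk := key n (by simp [hn, h0, hn4]) m (by simp [hm, hm0, hm4])
      have fin : ∀ {x : G} {c : ℕ}, x ∈ O → Cd (io x0 x1 x2) (g8 f a b) x c → m ^^^ c ∈ V4 → y ∈ O := by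
        intro x c hx' hcx h1
        have h2 := hcm.mul hx hT8 (hcx.inv hx hT8)
        have h3 := FUO h1 h2
        have : y = y * x⁻¹ * x := by group
        rw [this]; exact mul_mem h3 hx'
      have o1 := conjO ho
      have c1 := F.conj_f8 h hcn
      have o2 := conjO o1
      have c2 := F.conj_f8 h c1
      have o3 := conjO o2
      have c3 := F.conj_f8 h c2
      have o4 := conjO o3
      have c4 := F.conj_f8 h c3
      have o5 := conjO o4
      have c5 := F.conj_f8 h c4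
      have o6 := conjO o5
      have c6 := F.conj_f8 h c5
      rcases hk with hk | hk | hk | hk | hk | hk | hk
      exacts [fin ho hcn hk, fin o1 c1 hk, fin o2 c2 hk, fin o3 c3 hk, fin o4 c4 hk, fin o5 c5 hk,
        fin o6 c6 hk]
  -- the involution `i`
  have iC : i ∈ C := memC.2 hiv
  have iT : i ∈ T := by
    refine step i iC ?_ ⟨1, by rw [pow_one, pow_two, hi]⟩
    intro y hy
    exact OT ((mem_normalizer_iff.1 (nO iC) y).1 (TO hy))
  obtain ⟨m, hm, hcm, hm0⟩ := Tcode i iT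
  refine ⟨m, ?_, hcm⟩
  have hq := hcm.sq hx hT8
  rw [hi] at hq
  have Qlt : ∀ n < 256, Qf T8 n < 8 := by decide +kernel
  have hq0 := (F.io_eq_one h (Qlt m hm)).1 hq.symm
  have key : ∀ m < 256, Bf T8 m 61 = 0 → Qf T8 m = 0 → m ∈ V4 := by decide +kernel
  exact key m hm hm0 hq0

end V

/-- the involutions of `C_G(i)`, `i ∈ F U ∖ U` -/
theorem invol' (F : Frame U W K x0 x1 x2 f t a b) (h : Plane z U W K L) [Finite G]
    (hc : IsCharacteristicTwoType G) {i : G} {s : ℕ} (hs : s ∈ V3)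
    (hi : Cd (io x0 x1 x2) (g8 f a b) i s) {x : G} (hx2 : x * x = 1) (hxi : x * i = i * x) :
    ∃ n ∈ V4, Cd (io x0 x1 x2) (g8 f a b) x n := by
  have hx := F.io_xor h
  have hT8 := F.good8 h
  obtain ⟨v, hv, hfv⟩ := F.exists_v h hs
  have hvY := F.v_Y h hv
  -- `i = v u`
  obtain ⟨k, hk⟩ := hi
  obtain ⟨l, hl⟩ := hv
  obtain ⟨c, hc8, hc'⟩ := F.io_surj h (F.io_mem (l ^^^ k))
  have hiv : i = v * io x0 x1 x2 c := by
    rw [← hc', hk, hl, mul_assoc, ← hx, ← Nat.xor_assoc, Nat.xor_self, Nat.zero_xor]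
  have hv : Cd (io x0 x1 x2) (g8 f a b) v s := ⟨l, hl⟩
  have key : ∀ s ∈ V3, ∀ c < 8, ∃ n < 256, Bf T8 n s = c := by decide +kernel
  obtain ⟨n, hn, hnc⟩ := key s hs c hc8
  have cn : Cd (io x0 x1 x2) (g8 f a b) (elt (g8 f a b) n) n := Cd.elt hx n
  set y := elt (g8 f a b) n with hy
  have e := cn.comm hx hT8 hv
  rw [hnc] at e
  have yY := F.mem_Y_of_code h cn
  have e2 : y * v * y⁻¹ = i := by
    have e3 : io x0 x1 x2 c * y⁻¹ = y⁻¹ * io x0 x1 x2 c := (h.Y_comm (inv_mem yY) (F.io_mem c)).symm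
    rw [e, hiv]
    calc v * y * io x0 x1 x2 c * y⁻¹ = v * y * (io x0 x1 x2 c * y⁻¹) := by group
      _ = _ := by rw [e3]; group
  obtain ⟨m, hm, hcm⟩ := F.invol h hs hv hfv hc (i := y⁻¹ * x * y)
    (by
      calc y⁻¹ * x * y * (y⁻¹ * x * y) = y⁻¹ * (x * x) * y := by group
        _ = 1 := by rw [hx2]; group)
    (by
      calc y⁻¹ * x * y * v = y⁻¹ * (x * (y * v * y⁻¹)) * y := by group
        _ = y⁻¹ * ((y * v * y⁻¹) * x) * y := by rw [e2, hxi]
        _ = _ := by group)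
  refine ⟨m, hm, ?_⟩
  have h1 := (cn.mul hx hT8 hcm).mul hx hT8 (cn.inv hx hT8)
  have h2 : y * (y⁻¹ * x * y) * y⁻¹ = x := by group
  have h3 : n ^^^ m ^^^ n = m := by
    rw [Nat.xor_comm n m, Nat.xor_assoc, Nat.xor_self, Nat.xor_zero]
  rw [h2, h3] at h1
  exact h1

/-- no element of `F U ∖ U` is conjugate to `z` -/
theorem not_conj (F : Frame U W K x0 x1 x2 f t a b) (h : Plane z U W K L) [Finite G]
    (hc : IsCharacteristicTwoType G) {i : G} {s : ℕ} (hs : s ∈ V3)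
    (hi : Cd (io x0 x1 x2) (g8 f a b) i s) (g : G) : g * z * g⁻¹ ≠ i := by
  intro e
  have hx := F.io_xor h
  have hT8 := F.good8 h
  obtain ⟨g', hg'⟩ := h.pt _ F.ind.p_mem F.ind.p_ne
  set k := g * g'⁻¹ with hk
  have e1 : k * x0 * k⁻¹ = i := by
    rw [hk, ← hg', ← e]; group
  have cen : ∀ y ∈ YU U W, (k * y * k⁻¹) * i = i * (k * y * k⁻¹) := by
    intro y hy
    have := h.Y_comm hy F.ind.p_mem
    rw [← e1]
    calc (k * y * k⁻¹) * (k * x0 * k⁻¹) = k * (y * x0) * k⁻¹ := by group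
      _ = _ := by rw [this]; group
  have sq : ∀ y : G, y * y = 1 → (k * y * k⁻¹) * (k * y * k⁻¹) = 1 := by
    intro y hy
    calc (k * y * k⁻¹) * (k * y * k⁻¹) = k * (y * y) * k⁻¹ := by group
      _ = 1 := by rw [hy]; group
  obtain ⟨n, hn, hcn⟩ := F.invol' h hc hs hi (sq _ (F.E_sq h 0)) (cen _ (F.E_Y h 0))
  obtain ⟨m, hm, hcm⟩ := F.invol' h hc hs hi (sq _ (F.E_sq h 2)) (cen _ (F.E_Y h 2))
  have e2 := hcn.comm hx hT8 hcm
  have key : ∀ n ∈ V4, ∀ m ∈ V4, Bf T8 n m = 0 := by decide +kernel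
  rw [key n hn m hm, io_zero, mul_one] at e2
  have e3 : E f a b 0 * E f a b 2 = E f a b 2 * E f a b 0 := by
    calc E f a b 0 * E f a b 2 = k⁻¹ * ((k * E f a b 0 * k⁻¹) * (k * E f a b 2 * k⁻¹)) * k := by group
      _ = _ := by rw [e2]; group
  have e4 := F.tab h 0 (by norm_num) 2 (by norm_num)
  rw [e3] at e4
  have e5 := (F.io_eq_one h (m := mm 0 2) (by decide)).1 (left_eq_mul.1 e4)
  revert e5
  decide

end Frame

/-- section 4: the second class of involutions -/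
theorem Plane.second [Finite G] {z : G} {U : Subgroup G} {W K L : G → Subgroup G}
    (hc : IsCharacteristicTwoType G) (h : Plane z U W K L) :
    ∃ v : G, v * v = 1 ∧ (∀ g : G, g * z * g⁻¹ ≠ v) ∧ ∀ i : G, i * i = 1 → i ≠ 1 → i * v = v * i →
      i ∈ U ∨ ∀ g : G, g * z * g⁻¹ * i = i * (g * z * g⁻¹) → g * z * g⁻¹ ∈ U := by
  obtain ⟨x0, x1, x2, f, t, a, b, F⟩ := h.exists_frame
  have hs : 61 ∈ V3 := by decide
  obtain ⟨v, hv, hfv⟩ := F.exists_v h hs
  have V4lt : ∀ s ∈ V4, s < 256 := by decide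
  have V4V3 : ∀ s ∈ V4, s = 0 ∨ s ∈ V3 := by decide
  refine ⟨v, F.v_sq h hs hv, F.not_conj h hc hs hv, ?_⟩
  intro i hi _ hiv
  obtain ⟨n, hn, hcn⟩ := F.invol h hs hv hfv hc hi hiv
  rcases V4V3 n hn with h0 | h3
  · exact Or.inl ((F.code_U h (V4lt n hn) hcn).2 h0)
  · right
    intro g hg
    obtain ⟨g', hg'⟩ := h.pt _ F.ind.p_mem F.ind.p_ne
    have hzz : z * z = 1 := by
      have := h.sq_U _ F.ind.p_mem
      calc z * z = g'⁻¹ * ((g' * z * g'⁻¹) * (g' * z * g'⁻¹)) * g' := by group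
        _ = 1 := by rw [hg', this]; group
    obtain ⟨m, hm, hcm⟩ := F.invol' h hc h3 hcn (x := g * z * g⁻¹)
      (by
        calc g * z * g⁻¹ * (g * z * g⁻¹) = g * (z * z) * g⁻¹ := by group
          _ = 1 := by rw [hzz]; group) hg
    rcases V4V3 m hm with h0 | h3'
    · exact (F.code_U h (V4lt m hm) hcm).2 h0
    · exact absurd rfl (F.not_conj h hc h3' hcm g)

end Cfsg.Agent.Omega.NOThree.Ru

end
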