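import Cfsg.Agent.MinSimple.Geo
import Cfsg.Agent.Involutions.BaerSuzuki
import Cfsg.Agent.Involutions.PairCount

section


/-!
# NO-3S, `q = 2`, `M_x` natural for `SL₂(4)` (helper881's text #12858): input of sections 3 and 4

`U` is a plane (`|U| = 8`), `W p`, `K p`, `L p` are attached to the points `p ∈ U#` (`W p = ⟨lines on p⟩`,
`K p` = kernel of `C(p)` on `W p/p`, `L p = ⟨W q : q ∈ W p, q ≠ 1⟩`).

* `Fl U W K p q g`: a flag element: `g ∈ W p ∩ K q`, `g ∉ U` (the flag is the point `p` on the line `{p, q, pq}`);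
* `Ind U p q w`: three independent elements of `U`;
* `YU U W = ⟨W p : p ∈ U#⟩`;
* `Plane`: what sections 1 and 2 deliver.
-/

set_option autoImplicit false

namespace Cfsg.Agent.Omega.NOThree.Ru

open Subgroup Cfsg Cfsg.Agent.MinSimple.Geo

variable {G : Type*} [Group G]

/-- `⟨W p : p ∈ U#⟩` -/
def YU (U : Subgroup G) (W : G → Subgroup G) : Subgroup G := closure {w | ∃ p ∈ U, p ≠ 1 ∧ w ∈ W p}

/-- `g ∈ W p ∩ K q`, `g ∉ U` -/
structure Fl (U : Subgroup G) (W K : G → Subgroup G) (p q g : G) : Prop where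
  mem : g ∈ W p
  notMem : g ∉ U
  memK : g ∈ K q

/-- three independent elements of the elementary abelian group `U` -/
structure Ind (U : Subgroup G) (p q w : G) : Prop where
  p_mem : p ∈ U
  q_mem : q ∈ U
  w_mem : w ∈ U
  p_ne : p ≠ 1
  q_ne : q ≠ 1
  pq : p ≠ q
  w_ne : w ≠ 1
  pw : p ≠ w
  qw : q ≠ w
  pqw : p * q ≠ w

/-- The plane configuration: everything that sections 3 and 4 use. -/
structure Plane (z : G) (U : Subgroup G) (W K L : G → Subgroup G) : Prop where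
  -- the plane
  card_U : Nat.card U = 8
  sq_U : ∀ u ∈ U, u * u = 1
  pt : ∀ u ∈ U, u ≠ 1 → ∃ g : G, g * z * g⁻¹ = u
  two : IsPGroup 2 (centralizer (U : Set G))
  -- conjugation
  cj_W : ∀ g p : G, cj g (W p) = W (g * p * g⁻¹)
  cj_K : ∀ g p : G, cj g (K p) = K (g * p * g⁻¹)
  cj_L : ∀ g p : G, cj g (L p) = L (g * p * g⁻¹)
  -- the groups `W p`
  U_le : ∀ p ∈ U, p ≠ 1 → U ≤ W p
  sq_W : ∀ p ∈ U, p ≠ 1 → ∀ w ∈ W p, w * w = 1
  card_W : ∀ p ∈ U, p ≠ 1 → Nat.card (W p) = 32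
  inf_W : ∀ p ∈ U, p ≠ 1 → ∀ q ∈ U, q ≠ 1 → p ≠ q → W p ⊓ W q = U
  -- the groups `K p`
  K_cent : ∀ p ∈ U, p ≠ 1 → ∀ k ∈ K p, k * p = p * k
  K_act : ∀ p ∈ U, p ≠ 1 → ∀ k ∈ K p, ∀ w ∈ W p, k * w * k⁻¹ = w ∨ k * w * k⁻¹ = w * p
  /-- `C_{W p}(K p) = ⟨p⟩` -/
  K_fix : ∀ p ∈ U, p ≠ 1 → ∀ w ∈ W p, (∀ k ∈ K p, k * w = w * k) → w = 1 ∨ w = p
  -- flags
  exists_fl : ∀ p ∈ U, p ≠ 1 → ∀ q ∈ U, q ≠ 1 → p ≠ q → ∃ g, Fl U W K p q g
  fl_mul : ∀ p ∈ U, p ≠ 1 → ∀ q ∈ U, q ≠ 1 → p ≠ q → ∀ g, Fl U W K p q g → Fl U W K p (p * q) g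
  /-- `W p ∩ K q` has index two in `W p` -/
  fl_index : ∀ p ∈ U, p ≠ 1 → ∀ q ∈ U, q ≠ 1 → p ≠ q → ∀ a ∈ W p, ∀ b ∈ W p, a ∉ K q → b ∉ K q → a * b ∈ K q
  /-- `β(e_p^n, e_q^n) = 0` for the line `n = {p, q, pq}` -/
  fl_comm : ∀ p ∈ U, p ≠ 1 → ∀ q ∈ U, q ≠ 1 → p ≠ q → ∀ g g', Fl U W K p q g → Fl U W K q p g' → g * g' = g' * g
  /-- `β(e_p^n, e_q^m) = q` for `m ≠ n` -/
  fl_act : ∀ p ∈ U, p ≠ 1 → ∀ q ∈ U, q ≠ 1 → p ≠ q → ∀ g g', Fl U W K p q g → g' ∈ W q → g' ∉ K p →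
    g * g' = g' * g * q
  /-- `β(e_p^l, e_q^m) = l' ∩ m'` for `l, m ≠ n`: with `w = l ∩ m` this is `p q w` -/
  fl_tri : ∀ p q w, Ind U p q w → ∀ g g', Fl U W K p w g → Fl U W K q w g' → g * g' = g' * g * (p * q * w)
  -- the centraliser of `U`
  /-- `C_U = Y_U B_p` -/
  cent : ∀ p ∈ U, p ≠ 1 → ∀ c ∈ centralizer (U : Set G), ∃ y ∈ YU U W, ∃ b ∈ centralizer (W p : Set G), c = y * b
  -- the groups `L p`
  L_cent : ∀ p ∈ U, p ≠ 1 → ∀ l ∈ L p, l * p = p * l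
  W_le_L : ∀ p ∈ U, p ≠ 1 → ∀ q ∈ U, q ≠ 1 → W q ≤ L p
  /-- `L p` centralises `B_p/W_p` -/
  L_B : ∀ p ∈ U, p ≠ 1 → ∀ l ∈ L p, ∀ b ∈ centralizer (W p : Set G), l * b * l⁻¹ * b⁻¹ ∈ W p
  /-- the transvections with centre `p` on `U` are induced by elements of `L p` -/
  L_tv : ∀ p u w, Ind U p u w → ∃ l ∈ L p, l * u * l⁻¹ = u * p ∧ l * w * l⁻¹ = w
  /-- `L p` is generated by the `W (l q l⁻¹)`, `l ∈ L p`, `q ∈ U#` -/
  L_gen : ∀ p ∈ U, p ≠ 1 → ∀ c : G, (∀ l ∈ L p, ∀ q ∈ U, q ≠ 1 → ∀ w ∈ W (l * q * l⁻¹), c * w = w * c) →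
    ∀ l ∈ L p, c * l = l * c
  /-- `C_G(⟨L p, L q⟩) = 1` -/
  L_inf : ∀ p ∈ U, p ≠ 1 → ∀ q ∈ U, q ≠ 1 → p ≠ q → ∀ c : G, (∀ l ∈ L p, c * l = l * c) →
    (∀ l ∈ L q, c * l = l * c) → c = 1

end Cfsg.Agent.Omega.NOThree.Ru

end

section


/-!
# NO-3S, `q = 2`, `M_x` natural for `SL₂(4)` (helper881's text #12858): sections 5 and 6

* `exists_comm_of_second` (section 5): if `v` is an involution which is not conjugate to `z` and every involution of
  `C_G(v)` is in `U` or has all its conjugates of `z` in `U`, then every conjugate of `z` centralizes an element of `U#`.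
* `Planes.mem_pCore` (section 6): five planes on every point, covering a group of order 32, every conjugate of `z`
  centralizes an element of every plane: any two conjugates of `z` generate a 2-group, so `z ∈ O₂(G)`.
-/

set_option autoImplicit false

namespace Cfsg.Agent.Omega.NOThree.Ru

open Subgroup Cfsg.Agent.MinSimple.Geo Cfsg.Agent.Involutions

variable {G : Type*} [Group G]

/-- two nonconjugate involutions of a finite group commute with a common involution of the group generated by them -/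
theorem exists_comm_invol [Finite G] {v r : G} (hv : v * v = 1) (hr : r * r = 1)
    (hvr : ¬ IsConj v r) : ∃ i : G, i * i = 1 ∧ i ≠ 1 ∧ i * v = v * i ∧ i * r = r * i := by
  have hev : Even (orderOf (v * r)) := by
    rw [← Nat.not_odd_iff_even]
    exact fun h => hvr (PairCount.isConj_of_odd_orderOf_mul hv hr h)
  set n := orderOf (v * r) / 2 with hn
  have h2 := PairCount.orderOf_pow_half hev
  rw [← hn] at h2
  refine ⟨(v * r) ^ n, PairCount.mul_self_of_orderOf_two h2, ?_, ?_, ?_⟩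
  · intro e
    rw [e, orderOf_one] at h2
    omega
  · have h3 : v * (v * r) * v⁻¹ = (v * r)⁻¹ := PairCount.mul_inverts hv hr
    have h4 : v * (v * r) ^ n * v⁻¹ = (v * r) ^ n := by
      rw [← conj_pow, h3, inv_pow]
      exact inv_eq_of_mul_eq_one_left (PairCount.mul_self_of_orderOf_two h2)
    calc (v * r) ^ n * v = (v * (v * r) ^ n * v⁻¹) * v := by rw [h4]
      _ = v * (v * r) ^ n := by group
  · have h3 : r * (v * r) * r⁻¹ = (v * r)⁻¹ := by
      rw [mul_inv_rev, inv_eq_of_mul_eq_one_left hr, inv_eq_of_mul_eq_one_left hv]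
      calc r * (v * r) * r = r * v * (r * r) := by group
        _ = r * v := by rw [hr, mul_one]
    have h4 : r * (v * r) ^ n * r⁻¹ = (v * r) ^ n := by
      rw [← conj_pow, h3, inv_pow]
      exact inv_eq_of_mul_eq_one_left (PairCount.mul_self_of_orderOf_two h2)
    calc (v * r) ^ n * r = (r * (v * r) ^ n * r⁻¹) * r := by rw [h4]
      _ = r * (v * r) ^ n := by group

/-- section 5 -/
theorem exists_comm_of_second [Finite G] {z v : G} {U : Subgroup G} (hz : z * z = 1) (hz1 : z ≠ 1)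
    (hv : v * v = 1) (hvz : ∀ g : G, g * z * g⁻¹ ≠ v)
    (h4 : ∀ i : G, i * i = 1 → i ≠ 1 → i * v = v * i →
      i ∈ U ∨ ∀ g : G, g * z * g⁻¹ * i = i * (g * z * g⁻¹) → g * z * g⁻¹ ∈ U) (g : G) :
    ∃ u ∈ U, u ≠ 1 ∧ g * z * g⁻¹ * u = u * (g * z * g⁻¹) := by
  have hr : g * z * g⁻¹ * (g * z * g⁻¹) = 1 := by
    calc g * z * g⁻¹ * (g * z * g⁻¹) = g * (z * z) * g⁻¹ := by group
      _ = 1 := by rw [hz]; group
  have hr1 : g * z * g⁻¹ ≠ 1 := fun e => hz1 (by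
    have : z = g⁻¹ * (g * z * g⁻¹) * g := by group
    rw [this, e]; group)
  obtain ⟨i, hi, hi1, hiv, hir⟩ := exists_comm_invol hv hr (by
    intro hc
    obtain ⟨c, hc⟩ := isConj_iff.mp hc
    refine hvz (c⁻¹ * g) ?_
    calc c⁻¹ * g * z * (c⁻¹ * g)⁻¹ = c⁻¹ * (g * z * g⁻¹) * c := by group
      _ = c⁻¹ * (c * v * c⁻¹) * c := by rw [hc]
      _ = v := by group)
  rcases h4 i hi hi1 hiv with h | h
  · exact ⟨i, h, hi1, hir.symm⟩
  · exact ⟨_, h g hir.symm, hr1, rfl⟩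

/-- two involutions whose product has order dividing 4 generate a 2-group -/
theorem isPGroup_closure_pair {z r : G} (hz : z * z = 1) (hr : r * r = 1)
    (h : z * r * (z * r) * (z * r * (z * r)) = 1) :
    IsPGroup 2 (closure {z, r} : Subgroup G) := by
  have hzi : z⁻¹ = z := inv_eq_of_mul_eq_one_left hz
  have hri : r⁻¹ = r := inv_eq_of_mul_eq_one_left hr
  have h4 : (z * r) ^ 4 = 1 := by
    calc (z * r) ^ 4 = z * r * (z * r) * (z * r * (z * r)) := by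
          simp only [pow_succ, pow_zero, one_mul, mul_assoc]
      _ = 1 := h
  have h1 : IsPGroup 2 (zpowers (z * r)) := by
    rintro ⟨x, hx⟩
    obtain ⟨k, rfl⟩ := mem_zpowers_iff.mp hx
    refine ⟨2, Subtype.ext ?_⟩
    change ((z * r) ^ k) ^ (2 ^ 2) = 1
    have : ((z * r) ^ k) ^ (2 ^ 2) = ((z * r) ^ 4) ^ k := by
      rw [← zpow_natCast, ← zpow_mul, ← zpow_natCast, ← zpow_mul, mul_comm]
      norm_num
    rw [this, h4, one_zpow]
  have h2 : IsPGroup 2 (zpowers z) := isPGroup_zpowers hz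
  have hn : zpowers z ≤ normalizer (zpowers (z * r) : Set G) := by
    rw [zpowers_le]
    refine Cfsg.Agent.ZN.Block.mem_normalizer_of ?_ ?_
    · intro m hm
      obtain ⟨k, rfl⟩ := mem_zpowers_iff.mp hm
      rw [← conj_zpow, PairCount.mul_inverts hz hr]
      exact zpow_mem (inv_mem (mem_zpowers _)) k
    · intro m hm
      obtain ⟨k, rfl⟩ := mem_zpowers_iff.mp hm
      have e : z⁻¹ * (z * r) ^ k * z = z * (z * r) ^ k * z⁻¹ := by rw [hzi]
      rw [e, ← conj_zpow, PairCount.mul_inverts hz hr]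
      exact zpow_mem (inv_mem (mem_zpowers _)) k
  have h3 := IsPGroup.to_sup_of_normal_right' h2 h1 hn
  refine h3.to_le ?_
  rw [closure_le]
  rintro x (rfl | hx)
  · exact mem_sup_left (mem_zpowers _)
  · rw [Set.mem_singleton_iff] at hx
    subst hx
    have e : x = z * (z * x) := by rw [← mul_assoc, hz, one_mul]
    have h5 : z * (z * x) ∈ zpowers z ⊔ zpowers (z * x) :=
      mul_mem (mem_sup_left (mem_zpowers _)) (mem_sup_right (mem_zpowers _))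
    rw [← e] at h5
    exact h5

/-- section 6: the planes on `z` -/
structure Planes (z : G) (P : Set (Subgroup G)) (W : Subgroup G) : Prop where
  zz : z * z = 1
  z_ne : z ≠ 1
  conj : ∀ U ∈ P, ∀ g : G, cj g U ∈ P
  sq : ∀ U ∈ P, ∀ u ∈ U, u * u = 1
  /-- a line is in at most one plane -/
  uniq : ∀ U ∈ P, ∀ U' ∈ P, ∀ a ∈ U, ∀ b ∈ U, a ∈ U' → b ∈ U' → a ≠ 1 → b ≠ 1 → a ≠ b → U = U'
  /-- `W = W_z` is covered by the five planes on `z` -/
  cover : ∀ w ∈ W, ∃ U ∈ P, z ∈ U ∧ w ∈ U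
  le : ∀ U ∈ P, z ∈ U → U ≤ W
  five : {U | U ∈ P ∧ z ∈ U}.ncard = 5
  card_W : Nat.card W = 32
  /-- section 5 -/
  cent : ∀ U ∈ P, ∀ g : G, ∃ u ∈ U, u ≠ 1 ∧ g * z * g⁻¹ * u = u * (g * z * g⁻¹)

namespace Planes

variable {z : G} {P : Set (Subgroup G)} {W : Subgroup G}

/-- some plane on `z` contains two points commuting with `r` -/
theorem exists_two [Finite G] (h : Planes z P W) (g : G) (hzr : z * (g * z * g⁻¹) ≠ g * z * g⁻¹ * z) :
    ∃ U ∈ P, z ∈ U ∧ ∃ a ∈ U, ∃ b ∈ U, a ≠ 1 ∧ b ≠ 1 ∧ a ≠ b ∧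
      g * z * g⁻¹ * a = a * (g * z * g⁻¹) ∧ g * z * g⁻¹ * b = b * (g * z * g⁻¹) := by
  classical
  by_contra hcon
  push Not at hcon
  set r := g * z * g⁻¹ with hr
  let D : Subgroup G := W ⊓ centralizer ({r} : Set G)
  have hD : ∀ d, d ∈ D ↔ d ∈ W ∧ r * d = d * r := by
    intro d
    rw [mem_inf, mem_centralizer_singleton_iff]
    exact and_congr_right fun _ => eq_comm
  have hone : ∀ d ∈ D, d ≠ 1 → ∀ U ∈ P, z ∈ U → d ∈ U → ∀ U' ∈ P, z ∈ U' → d ∈ U' → U = U' := by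
    intro d hd hd1 U hU hzU hdU U' hU' hzU' hdU'
    refine h.uniq U hU U' hU' z hzU d hdU hzU' hdU' h.z_ne hd1 ?_
    intro e
    rw [← e] at hd
    exact hzr ((hD z).mp hd).2.symm
  have hex : ∀ d : {d : D // d ≠ 1}, ∃ U, (U ∈ P ∧ z ∈ U) ∧ ((d : D) : G) ∈ U := by
    intro d
    obtain ⟨U, hU, hzU, hdU⟩ := h.cover _ ((hD _).mp (d : D).2).1
    exact ⟨U, ⟨hU, hzU⟩, hdU⟩
  choose f hf1 hf2 using hex
  let F : {d : D // d ≠ 1} → {U | U ∈ P ∧ z ∈ U} := fun d => ⟨f d, hf1 d⟩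
  have hcoe : ∀ d : {d : D // d ≠ 1}, ((d : D) : G) ≠ 1 := fun d e => d.2 (Subtype.ext e)
  have hinj : Function.Injective F := by
    intro d d' hdd
    have hU : f d = f d' := congrArg Subtype.val hdd
    by_contra hne
    have hne' : ((d : D) : G) ≠ ((d' : D) : G) := fun e => hne (Subtype.ext (Subtype.ext e))
    have h1 := ((hD _).mp (d : D).2).2
    have h2 := ((hD _).mp (d' : D).2).2
    exact hcon (f d) (hf1 d).1 (hf1 d).2 _ (hf2 d) _ (hU ▸ hf2 d') (hcoe d) (hcoe d') hne' h1 h2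
  have hsurj : Function.Surjective F := by
    rintro ⟨U, hU, hzU⟩
    obtain ⟨u, hu, hu1, hur⟩ := h.cent U hU g
    have huD : u ∈ D := (hD u).mpr ⟨h.le U hU hzU hu, hur⟩
    refine ⟨⟨⟨u, huD⟩, fun e => hu1 (congrArg Subtype.val e)⟩, ?_⟩
    apply Subtype.ext
    exact hone u huD hu1 _ (hf1 _).1 (hf1 _).2 (hf2 _) U hU hzU hu
  have hcard : Nat.card {d : D // d ≠ 1} = 5 := by
    rw [Nat.card_congr (Equiv.ofBijective F ⟨hinj, hsurj⟩)]
    exact h.five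
  have h6 : Nat.card D = 6 := by
    have h1 : Nat.card {d : D // d = 1} + Nat.card {d : D // ¬ d = 1} = Nat.card D := by
      rw [← Nat.card_sum]
      exact Nat.card_congr (Equiv.sumCompl _)
    have h2 : Nat.card {d : D // d = 1} = 1 := by simp
    have h3 : Nat.card {d : D // ¬ d = 1} = 5 := hcard
    omega
  have hdvd : Nat.card D ∣ Nat.card W := card_dvd_of_le inf_le_left
  rw [h6, h.card_W] at hdvd
  omega

/-- section 6: any two conjugates of `z` generate a 2-group -/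
theorem isPGroup [Finite G] (h : Planes z P W) (g : G) :
    IsPGroup 2 (closure {z, g * z * g⁻¹} : Subgroup G) := by
  have hr : g * z * g⁻¹ * (g * z * g⁻¹) = 1 := by
    calc g * z * g⁻¹ * (g * z * g⁻¹) = g * (z * z) * g⁻¹ := by group
      _ = 1 := by rw [h.zz]; group
  refine isPGroup_closure_pair h.zz hr ?_
  by_cases hzr : z * (g * z * g⁻¹) = g * z * g⁻¹ * z
  · set r := g * z * g⁻¹
    have h1 : z * r * (z * r) = 1 := by
      calc z * r * (z * r) = z * (r * z) * r := by group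
        _ = (z * z) * (r * r) := by rw [← hzr]; group
        _ = 1 := by rw [h.zz, hr, mul_one]
    rw [h1, mul_one]
  · obtain ⟨U, hU, hzU, a, ha, b, hb, ha1, hb1, hab, hra, hrb⟩ := h.exists_two g hzr
    set r := g * z * g⁻¹
    have hri : r⁻¹ = r := inv_eq_of_mul_eq_one_left hr
    have hca : ∀ c ∈ U, r * c = c * r → c ∈ cj r U := by
      intro c hc hrc
      rw [mem_cj]
      have : r⁻¹ * c * r = c := by rw [mul_assoc, ← hrc, inv_mul_cancel_left]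
      rw [this]; exact hc
    have hUr : U = cj r U := h.uniq U hU _ (h.conj U hU r) a ha b hb (hca a ha hra) (hca b hb hrb) ha1 hb1 hab
    have hz' : r * z * r⁻¹ ∈ U := by
      have : r * z * r⁻¹ ∈ cj r U := conj_mem_cj hzU
      rwa [← hUr] at this
    have h1 : z * r * (z * r) ∈ U := by
      have e : z * r * (z * r) = z * (r * z * r⁻¹) := by rw [hri]; group
      rw [e]
      exact mul_mem hzU hz'
    exact h.sq U hU _ h1

theorem mem_pCore [Finite G] (h : Planes z P W) : z ∈ Cfsg.pCore 2 G := by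
  have : Fact (Nat.Prime 2) := ⟨Nat.prime_two⟩
  exact BaerSuzuki.mem_pCore_of_conj_pairs z h.isPGroup

end Planes

end Cfsg.Agent.Omega.NOThree.Ru

end

section


/-!
# The plane configuration: elementary facts

`Y = YU U W`: `U` is central in `Y`, `[Y, Y] ≤ U`, `[C_U, Y] ≤ U`, `C_U/D` is elementary abelian, `D = C_G(Y)`,
`D ∩ W p = U`.
-/

set_option autoImplicit false

namespace Cfsg.Agent.Omega.NOThree.Ru

open Subgroup Cfsg Cfsg.Agent.MinSimple.Geo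

variable {G : Type*} [Group G]

namespace Ind

variable {U : Subgroup G} {p q w : G}

theorem swap (h : Ind U p q w) (hU : ∀ u ∈ U, u * u = 1) : Ind U q p w := by
  refine ⟨h.q_mem, h.p_mem, h.w_mem, h.q_ne, h.p_ne, h.pq.symm, h.w_ne, h.qw, h.pw, ?_⟩
  have hc : q * p = p * q := by
    have h1 : ∀ u ∈ U, u⁻¹ = u := fun u hu => inv_eq_of_mul_eq_one_left (hU u hu)
    calc q * p = q⁻¹ * p⁻¹ := by rw [h1 q h.q_mem, h1 p h.p_mem]
      _ = (p * q)⁻¹ := by rw [mul_inv_rev]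
      _ = p * q := h1 _ (mul_mem h.p_mem h.q_mem)
  rw [hc]; exact h.pqw

end Ind

namespace Plane

variable {z : G} {U : Subgroup G} {W K L : G → Subgroup G}

section Elem

theorem inv_U (h : Plane z U W K L) {u : G} (hu : u ∈ U) : u⁻¹ = u := inv_eq_of_mul_eq_one_left (h.sq_U u hu)

theorem comm_U (h : Plane z U W K L) {u v : G} (hu : u ∈ U) (hv : v ∈ U) : u * v = v * u := by
  calc u * v = u⁻¹ * v⁻¹ := by rw [h.inv_U hu, h.inv_U hv]
    _ = (v * u)⁻¹ := by rw [mul_inv_rev]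
    _ = v * u := h.inv_U (mul_mem hv hu)

theorem inv_W (h : Plane z U W K L) {p : G} (hp : p ∈ U) (hp1 : p ≠ 1) {u : G} (hu : u ∈ W p) : u⁻¹ = u :=
  inv_eq_of_mul_eq_one_left (h.sq_W p hp hp1 u hu)

theorem comm_W (h : Plane z U W K L) {p : G} (hp : p ∈ U) (hp1 : p ≠ 1) {u v : G} (hu : u ∈ W p)
    (hv : v ∈ W p) : u * v = v * u := by
  calc u * v = u⁻¹ * v⁻¹ := by rw [h.inv_W hp hp1 hu, h.inv_W hp hp1 hv]
    _ = (v * u)⁻¹ := by rw [mul_inv_rev]
    _ = v * u := h.inv_W hp hp1 (mul_mem hv hu)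

theorem W_le_Y (_ : Plane z U W K L) {p : G} (hp : p ∈ U) (hp1 : p ≠ 1) : W p ≤ YU U W :=
  fun _ hw => subset_closure ⟨p, hp, hp1, hw⟩

theorem exists_ne (h : Plane z U W K L) : ∃ p ∈ U, p ≠ 1 := by
  have h1 : U ≠ ⊥ := by
    rintro rfl
    have := h.card_U
    rw [Subgroup.card_bot] at this
    omega
  obtain ⟨x, hx⟩ := (Subgroup.ne_bot_iff_exists_ne_one (H := U)).1 h1
  exact ⟨x, x.2, fun e => hx (Subtype.ext e)⟩

theorem U_le_Y (h : Plane z U W K L) : U ≤ YU U W := by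
  obtain ⟨p, hp, hp1⟩ := h.exists_ne
  exact (h.U_le p hp hp1).trans (h.W_le_Y hp hp1)

/-- `Y` centralises `U` -/
theorem Y_comm (h : Plane z U W K L) {y u : G} (hy : y ∈ YU U W) (hu : u ∈ U) : y * u = u * y := by
  induction hy using closure_induction with
  | mem w hw =>
    obtain ⟨p, hp, hp1, hw⟩ := hw
    exact h.comm_W hp hp1 hw (h.U_le p hp hp1 hu)
  | one => rw [one_mul, mul_one]
  | mul a b _ _ iha ihb => rw [mul_assoc, ihb, ← mul_assoc, iha, mul_assoc]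
  | inv a _ ih =>
    calc a⁻¹ * u = a⁻¹ * (u * a) * a⁻¹ := by group
      _ = u * a⁻¹ := by rw [← ih]; group

theorem Y_le (h : Plane z U W K L) : YU U W ≤ centralizer (U : Set G) := fun y hy => by
  rw [mem_centralizer_iff]
  exact fun u hu => (h.Y_comm hy hu).symm

theorem W_le_C (h : Plane z U W K L) {p : G} (hp : p ∈ U) (hp1 : p ≠ 1) : W p ≤ centralizer (U : Set G) :=
  (h.W_le_Y hp hp1).trans h.Y_le

theorem mem_C {c : G} : c ∈ centralizer (U : Set G) ↔ ∀ u ∈ U, c * u = u * c := by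
  rw [mem_centralizer_iff]
  exact ⟨fun h1 u hu => (h1 u hu).symm, fun h1 u hu => (h1 u hu).symm⟩

theorem conj_C {c u : G} (hc : c ∈ centralizer (U : Set G)) (hu : u ∈ U) : c * u * c⁻¹ = u := by
  rw [mem_C.1 hc u hu, mul_inv_cancel_right]

/-- an element which centralises `p` normalises `W p` -/
theorem conj_W (h : Plane z U W K L) {p c w : G} (hc : c * p * c⁻¹ = p) (hw : w ∈ W p) : c * w * c⁻¹ ∈ W p := by
  have := conj_mem_cj (g := c) hw
  rwa [h.cj_W, hc] at this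

theorem comm_WW (h : Plane z U W K L) {p q : G} (hp : p ∈ U) (hp1 : p ≠ 1) (hq : q ∈ U) (hq1 : q ≠ 1)
    {w w' : G} (hw : w ∈ W p) (hw' : w' ∈ W q) : w * w' * w⁻¹ * w'⁻¹ ∈ U := by
  by_cases hpq : p = q
  · subst hpq
    rw [h.comm_W hp hp1 hw hw']
    have : w' * w * w⁻¹ * w'⁻¹ = 1 := by group
    rw [this]; exact one_mem _
  · rw [← h.inf_W p hp hp1 q hq hq1 hpq]
    have h1 := h.conj_W (conj_C (h.W_le_C hp hp1 hw) hq) hw'
    have h2 : w' * w⁻¹ * w'⁻¹ ∈ W p := h.conj_W (conj_C (h.W_le_C hq hq1 hw') hp) ((W p).inv_mem hw)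
    refine ⟨?_, (W q).mul_mem h1 ((W q).inv_mem hw')⟩
    have e : w * w' * w⁻¹ * w'⁻¹ = w * (w' * w⁻¹ * w'⁻¹) := by group
    rw [e]
    exact mul_mem hw h2

/-- a commutator calculus: if `[a, y], [b, y] ∈ U` and `a` centralises `U`, then `[ab, y] ∈ U` -/
theorem comm_mul_left {a b y : G} (ha : a ∈ centralizer (U : Set G)) (h1 : a * y * a⁻¹ * y⁻¹ ∈ U)
    (h2 : b * y * b⁻¹ * y⁻¹ ∈ U) : a * b * y * (a * b)⁻¹ * y⁻¹ ∈ U := by
  have e : a * b * y * (a * b)⁻¹ * y⁻¹ = a * (b * y * b⁻¹ * y⁻¹) * a⁻¹ * (a * y * a⁻¹ * y⁻¹) := by group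
  rw [e, conj_C ha h2]
  exact mul_mem h2 h1

theorem comm_mul_right {a y y' : G} (hy : y ∈ centralizer (U : Set G)) (h1 : a * y * a⁻¹ * y⁻¹ ∈ U)
    (h2 : a * y' * a⁻¹ * y'⁻¹ ∈ U) : a * (y * y') * a⁻¹ * (y * y')⁻¹ ∈ U := by
  have e : a * (y * y') * a⁻¹ * (y * y')⁻¹ = a * y * a⁻¹ * y⁻¹ * (y * (a * y' * a⁻¹ * y'⁻¹) * y⁻¹) := by group
  rw [e, conj_C hy h2]
  exact mul_mem h1 h2

/-- `[C_U, Y] ≤ U` as soon as it holds on the generators -/
theorem comm_of_gen (h : Plane z U W K L) {c : G}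
    (hw : ∀ p ∈ U, p ≠ 1 → ∀ w ∈ W p, c * w * c⁻¹ * w⁻¹ ∈ U) {y : G} (hy : y ∈ YU U W) :
    c * y * c⁻¹ * y⁻¹ ∈ U := by
  induction hy using closure_induction with
  | mem w hw' =>
    obtain ⟨p, hp, hp1, hw'⟩ := hw'
    exact hw p hp hp1 w hw'
  | one => simp [one_mem]
  | mul a b ha _ iha ihb => exact comm_mul_right (h.Y_le ha) iha ihb
  | inv a ha ih =>
    have e : c * a⁻¹ * c⁻¹ * a⁻¹⁻¹ = a⁻¹ * (c * a * c⁻¹ * a⁻¹)⁻¹ * a⁻¹⁻¹ := by group
    rw [e, conj_C (inv_mem (h.Y_le ha)) (inv_mem ih)]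
    exact inv_mem ih

theorem comm_YW (h : Plane z U W K L) {q : G} (hq : q ∈ U) (hq1 : q ≠ 1) {y w : G} (hy : y ∈ YU U W)
    (hw : w ∈ W q) : y * w * y⁻¹ * w⁻¹ ∈ U := by
  have h1 : w * y * w⁻¹ * y⁻¹ ∈ U := h.comm_of_gen (fun p hp hp1 w' hw' => h.comm_WW hq hq1 hp hp1 hw hw') hy
  have e : y * w * y⁻¹ * w⁻¹ = (w * y * w⁻¹ * y⁻¹)⁻¹ := by group
  rw [e]
  exact inv_mem h1

/-- `[C_U, W p] ≤ U` -/
theorem comm_CW (h : Plane z U W K L) {c : G} (hc : c ∈ centralizer (U : Set G)) {p : G} (hp : p ∈ U)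
    (hp1 : p ≠ 1) {w : G} (hw : w ∈ W p) : c * w * c⁻¹ * w⁻¹ ∈ U := by
  obtain ⟨y, hy, b, hb, rfl⟩ := h.cent p hp hp1 c hc
  have hbw : b * w = w * b := (mem_centralizer_iff.1 hb w hw).symm
  have e : y * b * w * (y * b)⁻¹ * w⁻¹ = y * w * y⁻¹ * w⁻¹ := by
    rw [mul_inv_rev, mul_assoc y b w, hbw]; group
  rw [e]
  exact h.comm_YW hp hp1 hy hw

/-- `[C_U, Y] ≤ U` -/
theorem comm_CY (h : Plane z U W K L) {c y : G} (hc : c ∈ centralizer (U : Set G)) (hy : y ∈ YU U W) :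
    c * y * c⁻¹ * y⁻¹ ∈ U :=
  h.comm_of_gen (fun _ hp hp1 _ hw => h.comm_CW hc hp hp1 hw) hy

theorem comm_YY (h : Plane z U W K L) {c y : G} (hc : c ∈ YU U W) (hy : y ∈ YU U W) :
    c * y * c⁻¹ * y⁻¹ ∈ U := h.comm_CY (h.Y_le hc) hy

/-- `C_U` normalises `Y` -/
theorem C_conj_Y (h : Plane z U W K L) {c y : G} (hc : c ∈ centralizer (U : Set G)) (hy : y ∈ YU U W) :
    c * y * c⁻¹ ∈ YU U W := by
  have e : c * y * c⁻¹ = c * y * c⁻¹ * y⁻¹ * y := by group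
  rw [e]
  exact mul_mem (h.U_le_Y (h.comm_CY hc hy)) hy

/-! ### `D = C_G(Y)` -/

theorem mem_D {d : G} : d ∈ centralizer (YU U W : Set G) ↔ ∀ y ∈ YU U W, d * y = y * d := by
  rw [mem_centralizer_iff]
  exact ⟨fun h1 u hu => (h1 u hu).symm, fun h1 u hu => (h1 u hu).symm⟩

theorem mem_D_iff {d : G} : d ∈ centralizer (YU U W : Set G) ↔
    ∀ p ∈ U, p ≠ 1 → ∀ w ∈ W p, d * w = w * d := by
  rw [mem_D]
  constructor
  · intro h1 p hp hp1 w hw
    exact h1 w (subset_closure ⟨p, hp, hp1, hw⟩)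
  · intro h1 y hy
    have h2 : YU U W ≤ centralizer ({d} : Set G) := by
      rw [YU, closure_le]
      rintro w ⟨p, hp, hp1, hw⟩
      exact mem_centralizer_singleton_iff.2 (h1 p hp hp1 w hw).symm
    exact (mem_centralizer_singleton_iff.1 (h2 hy)).symm

theorem D_le_C (h : Plane z U W K L) : centralizer (YU U W : Set G) ≤ centralizer (U : Set G) :=
  centralizer_le h.U_le_Y

theorem D_le_B (h : Plane z U W K L) {p : G} (hp : p ∈ U) (hp1 : p ≠ 1) :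
    centralizer (YU U W : Set G) ≤ centralizer (W p : Set G) := centralizer_le (h.W_le_Y hp hp1)

theorem U_le_D (h : Plane z U W K L) : U ≤ centralizer (YU U W : Set G) := fun u hu => by
  rw [mem_D]
  exact fun y hy => (h.Y_comm hy hu).symm

/-- a commuting action: `c w c⁻¹ = φ w` with `φ ∈ U` -/
theorem C_act (h : Plane z U W K L) {c : G} (hc : c ∈ centralizer (U : Set G)) {p : G} (hp : p ∈ U)
    (hp1 : p ≠ 1) {w : G} (hw : w ∈ W p) : ∃ u ∈ U, c * w * c⁻¹ = u * w :=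
  ⟨_, h.comm_CW hc hp hp1 hw, by group⟩

/-- `C_U/D` is abelian -/
theorem comm_CC (h : Plane z U W K L) {c c' : G} (hc : c ∈ centralizer (U : Set G))
    (hc' : c' ∈ centralizer (U : Set G)) : c * c' * c⁻¹ * c'⁻¹ ∈ centralizer (YU U W : Set G) := by
  rw [mem_D_iff]
  intro p hp hp1 w hw
  obtain ⟨u, hu, e⟩ := h.C_act hc hp hp1 hw
  obtain ⟨u', hu', e'⟩ := h.C_act hc' hp hp1 hw
  have e1 : c * c' * w * (c * c')⁻¹ = u' * (u * w) := by
    calc c * c' * w * (c * c')⁻¹ = c * (c' * w * c'⁻¹) * c⁻¹ := by group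
      _ = (c * u' * c⁻¹) * (c * w * c⁻¹) := by rw [e']; group
      _ = u' * (u * w) := by rw [conj_C hc hu', e]
  have e2 : c' * c * w * (c' * c)⁻¹ = u * (u' * w) := by
    calc c' * c * w * (c' * c)⁻¹ = c' * (c * w * c⁻¹) * c'⁻¹ := by group
      _ = (c' * u * c'⁻¹) * (c' * w * c'⁻¹) := by rw [e]; group
      _ = u * (u' * w) := by rw [conj_C hc' hu, e']
  have e3 : u' * (u * w) = u * (u' * w) := by rw [← mul_assoc, h.comm_U hu' hu, mul_assoc]
  have e4 : c * c' * w * (c * c')⁻¹ = c' * c * w * (c' * c)⁻¹ := by rw [e1, e2, e3]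
  have e5 : w = (c' * c)⁻¹ * (c * c' * w * (c * c')⁻¹) * (c' * c) := by rw [e4]; group
  -- `w` commutes with `(c'c)⁻¹ (cc')`
  have key : ∀ {x : G}, x ∈ W p → (c' * c)⁻¹ * (c * c') * x = x * ((c' * c)⁻¹ * (c * c')) := by
    intro x hx
    obtain ⟨u, hu, e⟩ := h.C_act hc hp hp1 hx
    obtain ⟨u', hu', e'⟩ := h.C_act hc' hp hp1 hx
    have e1 : c * c' * x * (c * c')⁻¹ = u' * (u * x) := by
      calc c * c' * x * (c * c')⁻¹ = c * (c' * x * c'⁻¹) * c⁻¹ := by group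
        _ = (c * u' * c⁻¹) * (c * x * c⁻¹) := by rw [e']; group
        _ = u' * (u * x) := by rw [conj_C hc hu', e]
    have e2 : c' * c * x * (c' * c)⁻¹ = u * (u' * x) := by
      calc c' * c * x * (c' * c)⁻¹ = c' * (c * x * c⁻¹) * c'⁻¹ := by group
        _ = (c' * u * c'⁻¹) * (c' * x * c'⁻¹) := by rw [e]; group
        _ = u * (u' * x) := by rw [conj_C hc' hu, e']
    have e3 : u' * (u * x) = u * (u' * x) := by rw [← mul_assoc, h.comm_U hu' hu, mul_assoc]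
    have e4 : c * c' * x * (c * c')⁻¹ = c' * c * x * (c' * c)⁻¹ := by rw [e1, e2, e3]
    calc (c' * c)⁻¹ * (c * c') * x = (c' * c)⁻¹ * (c * c' * x * (c * c')⁻¹) * (c * c') := by group
      _ = (c' * c)⁻¹ * (c' * c * x * (c' * c)⁻¹) * (c * c') := by rw [e4]
      _ = x * ((c' * c)⁻¹ * (c * c')) := by group
  -- conjugate by `c' c`
  have hcc : c' * c ∈ centralizer (U : Set G) := mul_mem hc' hc
  have hx := h.conj_W (p := p) (c := (c' * c)⁻¹) (w := w) (by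
    have := conj_C (inv_mem hcc) hp
    simpa using this) hw
  rw [inv_inv] at hx
  have h6 := key hx
  calc c * c' * c⁻¹ * c'⁻¹ * w = (c' * c) * ((c' * c)⁻¹ * (c * c') * ((c' * c)⁻¹ * w * (c' * c))) * (c' * c)⁻¹ := by
        group
    _ = (c' * c) * ((c' * c)⁻¹ * w * (c' * c) * ((c' * c)⁻¹ * (c * c'))) * (c' * c)⁻¹ := by rw [h6]
    _ = w * (c * c' * c⁻¹ * c'⁻¹) := by group

/-- `C_U/D` has exponent two -/
theorem sq_C (h : Plane z U W K L) {c : G} (hc : c ∈ centralizer (U : Set G)) :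
    c * c ∈ centralizer (YU U W : Set G) := by
  rw [mem_D_iff]
  intro p hp hp1 w hw
  obtain ⟨u, hu, e⟩ := h.C_act hc hp hp1 hw
  have e1 : c * c * w * (c * c)⁻¹ = w := by
    calc c * c * w * (c * c)⁻¹ = c * (c * w * c⁻¹) * c⁻¹ := by group
      _ = (c * u * c⁻¹) * (c * w * c⁻¹) := by
          rw [show c * (c * w * c⁻¹) * c⁻¹ = c * (u * w) * c⁻¹ by rw [e]]; group
      _ = u * (u * w) := by rw [conj_C hc hu, e]
      _ = w := by rw [← mul_assoc, h.sq_U u hu, one_mul]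
  exact mul_inv_eq_iff_eq_mul.1 e1

end Elem

/-! ### Flags -/

section Flags

theorem fl_notMem (h : Plane z U W K L) {p q w g' : G} (i : Ind U p q w) (hg' : Fl U W K q w g') : g' ∉ K p := by
  intro hk
  have hF : Fl U W K q p g' := ⟨hg'.mem, hg'.notMem, hk⟩
  obtain ⟨g, hg⟩ := h.exists_fl p i.p_mem i.p_ne w i.w_mem i.w_ne i.pw
  have e1 := h.fl_tri p q w i g g' hg hg'
  by_cases hgq : g ∈ K q
  · have e2 := h.fl_comm p i.p_mem i.p_ne q i.q_mem i.q_ne i.pq g g' ⟨hg.mem, hg.notMem, hgq⟩ hF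
    rw [e2] at e1
    have e3 : p * q * w = 1 := (left_eq_mul.1 e1)
    apply i.pqw
    rw [mul_eq_one_iff_eq_inv, h.inv_U i.w_mem] at e3
    exact e3
  · have e2 := h.fl_act q i.q_mem i.q_ne p i.p_mem i.p_ne i.pq.symm g' g hF hg.mem hgq
    -- `g' g = g g' p`, `g g' = g' g (pqw)`
    have e3 : g * g' = g * g' * (p * (p * q * w)) := by
      calc g * g' = g' * g * (p * q * w) := e1
        _ = _ := by rw [e2]; group
    have e4 : p * (p * q * w) = 1 := left_eq_mul.1 e3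
    apply i.qw
    have e5 : p * (p * q * w) = q * w := by
      rw [mul_assoc p q w, ← mul_assoc, h.sq_U p i.p_mem, one_mul]
    rw [e5, mul_eq_one_iff_eq_inv, h.inv_U i.w_mem] at e4
    exact e4

theorem com_gen (h : Plane z U W K L) {p q w g g' : G} (i : Ind U p q w) (hg : Fl U W K p w g)
    (hg' : Fl U W K q w g') : g * g' = g' * g * (p * q * w) := h.fl_tri p q w i g g' hg hg'

theorem com_left (h : Plane z U W K L) {p q w g g' : G} (i : Ind U p q w) (hg : Fl U W K p q g)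
    (hg' : Fl U W K q w g') : g * g' = g' * g * q :=
  h.fl_act p i.p_mem i.p_ne q i.q_mem i.q_ne i.pq g g' hg hg'.mem (h.fl_notMem i hg')

theorem com_right (h : Plane z U W K L) {p q w g g' : G} (i : Ind U p q w) (hg : Fl U W K p w g)
    (hg' : Fl U W K q p g') : g * g' = g' * g * p := by
  have e := h.fl_act q i.q_mem i.q_ne p i.p_mem i.p_ne i.pq.symm g' g hg' hg.mem
    (h.fl_notMem (i.swap h.sq_U) hg)
  rw [e, mul_assoc, h.sq_U p i.p_mem, mul_one]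

/-- `D ∩ W p = U` -/
theorem D_inf_W (h : Plane z U W K L) {p : G} (hp : p ∈ U) (hp1 : p ≠ 1) {w : G} (hw : w ∈ W p)
    (hwD : w ∈ centralizer (YU U W : Set G)) {q r : G} (i : Ind U p q r) : w ∈ U := by
  by_contra hwU
  have hc : ∀ p' ∈ U, p' ≠ 1 → ∀ w' ∈ W p', w * w' = w' * w := mem_D_iff.1 hwD
  by_cases hwq : w ∈ K q
  · -- a flag on `{p, q, pq}`
    obtain ⟨g', hg'⟩ := h.exists_fl q i.q_mem i.q_ne r i.w_mem i.w_ne i.qw
    have e := h.com_left i ⟨hw, hwU, hwq⟩ hg'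
    rw [hc q i.q_mem i.q_ne g' hg'.mem] at e
    exact i.q_ne (left_eq_mul.1 e)
  · obtain ⟨g', hg'⟩ := h.exists_fl q i.q_mem i.q_ne p hp hp1 i.pq.symm
    have e := h.fl_act q i.q_mem i.q_ne p hp hp1 i.pq.symm g' w hg' hw hwq
    rw [hc q i.q_mem i.q_ne g' hg'.mem] at e
    exact hp1 (left_eq_mul.1 e)

end Flags

end Plane

end Cfsg.Agent.Omega.NOThree.Ru

end
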