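import Cfsg.Agent.Mrg.Omega.NOThree.Ru.Plane
import Mathlib

section


/-!
# The plane configuration: the elements `f` of order seven and `h` of order three

`Nice U W g` : `g` normalises `U`, `[g, D] ≤ U`, `[g, C_U] ≤ Y`. The nice elements induce `GL(U)` on `U`.
`Frame` : a basis `x0, x1, x2` of `U`, nice elements `f` (`f ^ 7 = 1`, `x0 ↦ x1 ↦ x2 ↦ x0 x1`) and `h`
(`x0 ↦ x0`, `x1 ↦ x2 ↦ x1 x2`), flags `a` on `{x0, x1, x0 x1}` and `b` on `{x0, x2, x0 x2}`.
-/

set_option autoImplicit false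

namespace Cfsg.Agent.Omega.NOThree.Ru

open Subgroup Cfsg Cfsg.Agent.MinSimple.Geo

variable {G : Type*} [Group G]

/-- `g` normalises `U`, `[g, D] ≤ U`, `[g, C_U] ≤ Y` -/
structure Nice (U : Subgroup G) (W : G → Subgroup G) (g : G) : Prop where
  nU : ∀ u ∈ U, g * u * g⁻¹ ∈ U
  nU' : ∀ u ∈ U, g⁻¹ * u * g ∈ U
  D : ∀ d ∈ centralizer (YU U W : Set G), g * d * g⁻¹ * d⁻¹ ∈ U
  C : ∀ c ∈ centralizer (U : Set G), g * c * g⁻¹ * c⁻¹ ∈ YU U W

namespace Plane

variable {z : G} {U : Subgroup G} {W K L : G → Subgroup G}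

theorem conj_Y (h : Plane z U W K L) {g y : G} (hg : ∀ u ∈ U, g * u * g⁻¹ ∈ U) (hy : y ∈ YU U W) :
    g * y * g⁻¹ ∈ YU U W := by
  induction hy using closure_induction with
  | mem w hw =>
    obtain ⟨p, hp, hp1, hw⟩ := hw
    have := conj_mem_cj (g := g) hw
    rw [h.cj_W] at this
    refine subset_closure ⟨g * p * g⁻¹, hg p hp, ?_, this⟩
    intro e
    apply hp1
    calc p = g⁻¹ * (g * p * g⁻¹) * g := by group
      _ = 1 := by rw [e]; group
  | one => simp [one_mem]
  | mul a b _ _ iha ihb =>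
    have e : g * (a * b) * g⁻¹ = (g * a * g⁻¹) * (g * b * g⁻¹) := by group
    rw [e]; exact mul_mem iha ihb
  | inv a _ ih =>
    have e : g * a⁻¹ * g⁻¹ = (g * a * g⁻¹)⁻¹ := by group
    rw [e]; exact inv_mem ih

theorem conj_CU (_ : Plane z U W K L) {g c : G} (hg : ∀ u ∈ U, g⁻¹ * u * g ∈ U)
    (hc : c ∈ centralizer (U : Set G)) : g * c * g⁻¹ ∈ centralizer (U : Set G) := by
  rw [mem_C] at hc ⊢
  intro u hu
  have := hc _ (hg u hu)
  calc g * c * g⁻¹ * u = g * (c * (g⁻¹ * u * g)) * g⁻¹ := by group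
    _ = g * (g⁻¹ * u * g * c) * g⁻¹ := by rw [this]
    _ = u * (g * c * g⁻¹) := by group

theorem conj_D (h : Plane z U W K L) {g d : G} (hg : ∀ u ∈ U, g⁻¹ * u * g ∈ U)
    (hd : d ∈ centralizer (YU U W : Set G)) : g * d * g⁻¹ ∈ centralizer (YU U W : Set G) := by
  rw [mem_D] at hd ⊢
  intro y hy
  have h1 := h.conj_Y (g := g⁻¹) (by simpa using hg) hy
  rw [inv_inv] at h1
  have := hd _ h1
  calc g * d * g⁻¹ * y = g * (d * (g⁻¹ * y * g)) * g⁻¹ := by group
    _ = g * (g⁻¹ * y * g * d) * g⁻¹ := by rw [this]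
    _ = y * (g * d * g⁻¹) := by group

theorem nice_one (_ : Plane z U W K L) : Nice U W (1 : G) where
  nU u hu := by simpa using hu
  nU' u hu := by simpa using hu
  D d _ := by simp [one_mem]
  C c _ := by simp [one_mem]

theorem nice_mul (h : Plane z U W K L) {g g' : G} (hg : Nice U W g) (hg' : Nice U W g') : Nice U W (g * g') where
  nU u hu := by
    have := hg.nU _ (hg'.nU u hu)
    have e : g * g' * u * (g * g')⁻¹ = g * (g' * u * g'⁻¹) * g⁻¹ := by group
    rw [e]; exact this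
  nU' u hu := by
    have := hg'.nU' _ (hg.nU' u hu)
    have e : (g * g')⁻¹ * u * (g * g') = g'⁻¹ * (g⁻¹ * u * g) * g' := by group
    rw [e]; exact this
  D d hd := by
    have h1 := hg'.D d hd
    have h2 := hg.D d hd
    have e : g * g' * d * (g * g')⁻¹ * d⁻¹ = g * (g' * d * g'⁻¹ * d⁻¹) * g⁻¹ * (g * d * g⁻¹ * d⁻¹) := by group
    rw [e]; exact mul_mem (hg.nU _ h1) h2
  C d hd := by
    have h1 := hg'.C d hd
    have h2 := hg.C d hd
    have e : g * g' * d * (g * g')⁻¹ * d⁻¹ = g * (g' * d * g'⁻¹ * d⁻¹) * g⁻¹ * (g * d * g⁻¹ * d⁻¹) := by group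
    rw [e]; exact mul_mem (h.conj_Y hg.nU h1) h2

theorem nice_pow (h : Plane z U W K L) {g : G} (hg : Nice U W g) (n : ℕ) : Nice U W (g ^ n) := by
  induction n with
  | zero => rw [pow_zero]; exact h.nice_one
  | succ n ih => rw [pow_succ]; exact h.nice_mul ih hg

end Plane

namespace Ind

variable {U : Subgroup G} {p q w : G}

theorem c (hU : ∀ u ∈ U, u * u = 1) {u v : G} (hu : u ∈ U) (hv : v ∈ U) : u * v = v * u := by
  have h1 : ∀ u ∈ U, u⁻¹ = u := fun u hu => inv_eq_of_mul_eq_one_left (hU u hu)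
  calc u * v = u⁻¹ * v⁻¹ := by rw [h1 u hu, h1 v hv]
    _ = (v * u)⁻¹ := by rw [mul_inv_rev]
    _ = v * u := h1 _ (mul_mem hv hu)

/-- `a b = c ↔ a c = b` -/
theorem sh (hU : ∀ u ∈ U, u * u = 1) {u v x : G} (hu : u ∈ U) (e : u * v = x) : u * x = v := by
  rw [← e, ← mul_assoc, hU u hu, one_mul]

theorem rot (h : Ind U p q w) (hU : ∀ u ∈ U, u * u = 1) : Ind U q w p :=
  ⟨h.q_mem, h.w_mem, h.p_mem, h.q_ne, h.w_ne, h.qw, h.p_ne, h.pq.symm, h.pw.symm, fun e => by
    apply h.pqw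
    have := sh hU h.q_mem e
    rw [c hU h.p_mem h.q_mem]; exact this⟩

theorem swap' (h : Ind U p q w) (hU : ∀ u ∈ U, u * u = 1) : Ind U p w q := ((h.rot hU).rot hU).swap hU |>.swap hU
  |> fun _ => ((h.swap hU).rot hU)

/-- `(p q, q, w)` -/
theorem mul (h : Ind U p q w) (hU : ∀ u ∈ U, u * u = 1) : Ind U (p * q) q w := by
  refine ⟨mul_mem h.p_mem h.q_mem, h.q_mem, h.w_mem, ?_, h.q_ne, ?_, h.w_ne, h.pqw, h.qw, ?_⟩
  · intro e
    apply h.pq
    have := sh hU h.p_mem e
    rw [mul_one] at this; exact this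
  · intro e; exact h.p_ne (by simpa using e)
  · rw [mul_assoc, hU q h.q_mem, mul_one]; exact h.pw

end Ind

namespace Plane

variable {z : G} {U : Subgroup G} {W K L : G → Subgroup G}

theorem exists_ind (h : Plane z U W K L) : ∃ x0 x1 x2, Ind U x0 x1 x2 := by
  obtain ⟨p, hp, hp1⟩ := h.exists_ne
  have hfin : Finite U := Nat.finite_of_card_ne_zero (by rw [h.card_U]; norm_num)
  have key : ∀ s : Finset G, s.card < 8 → ∃ w ∈ U, w ∉ s := by
    intro s hs
    by_contra hcon
    push Not at hcon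
    have h1 : (U : Set G) ⊆ (s : Set G) := fun x hx => hcon x hx
    have h2 := Set.ncard_le_ncard h1 (Set.toFinite _)
    rw [Set.ncard_coe_finset] at h2
    have h3 : (U : Set G).ncard = 8 := by rw [← h.card_U]; rfl
    omega
  classical
  obtain ⟨q, hq, hq'⟩ := key {1, p} (lt_of_le_of_lt (Finset.card_le_two) (by norm_num))
  obtain ⟨w, hw, hw'⟩ := key {1, p, q, p * q} (lt_of_le_of_lt (Finset.card_le_four) (by norm_num))
  simp only [Finset.mem_insert, Finset.mem_singleton, not_or] at hq' hw'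
  exact ⟨p, q, w, hp, hq, hw, hp1, hq'.1, fun e => hq'.2 e.symm, hw'.1, fun e => hw'.2.1 e.symm,
    fun e => hw'.2.2.1 e.symm, fun e => hw'.2.2.2 e.symm⟩

/-- three independent elements generate `U` -/
theorem mem_cases (h : Plane z U W K L) {p q w : G} (i : Ind U p q w) {u : G} (hu : u ∈ U) :
    u = 1 ∨ u = p ∨ u = q ∨ u = p * q ∨ u = w ∨ u = p * w ∨ u = q * w ∨ u = p * q * w := by
  classical
  by_contra hcon
  push Not at hcon
  obtain ⟨h1, h2, h3, h4, h5, h6, h7, h8⟩ := hcon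
  have hU := h.sq_U
  have hfin : Finite U := Nat.finite_of_card_ne_zero (by rw [h.card_U]; norm_num)
  let s : Finset G := {1, p, q, p * q, w, p * w, q * w, p * q * w, u}
  have hs : s.card = 9 := by
    have hpq1 : p * q ≠ 1 := fun e => i.pq (by have := Ind.sh hU i.p_mem e; rwa [mul_one] at this)
    have hpw1 : p * w ≠ 1 := fun e => i.pw (by have := Ind.sh hU i.p_mem e; rwa [mul_one] at this)
    have hqw1 : q * w ≠ 1 := fun e => i.qw (by have := Ind.sh hU i.q_mem e; rwa [mul_one] at this)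
    have hpqw1 : p * q * w ≠ 1 := fun e => i.pqw (by
      have := Ind.sh hU (mul_mem i.p_mem i.q_mem) e; rwa [mul_one] at this)
    have a1 : p * q ≠ q := fun e => i.p_ne (by simpa using e)
    have a2 : p ≠ p * q := fun e => i.q_ne (by simpa using e.symm)
    have a3 : p ≠ p * w := fun e => i.w_ne (by simpa using e.symm)
    have a4 : w ≠ p * w := fun e => i.p_ne (by simpa using e.symm)
    have a5 : q ≠ q * w := fun e => i.w_ne (by simpa using e.symm)
    have a6 : w ≠ q * w := fun e => i.q_ne (by simpa using e.symm)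
    have a7 : p * q ≠ p * q * w := fun e => i.w_ne (by simpa using e.symm)
    have a8 : w ≠ p * q * w := fun e => hpq1 (by simpa using e.symm)
    have i2 := i.swap' hU
    have b1 : p * w ≠ q := i2.pqw
    have b2 : q * w ≠ p := (i.rot hU).pqw
    have b3 : p * q ≠ p * w := fun e => i.qw (by simpa using e)
    have b4 : p * q ≠ q * w := fun e => i.pw (by
      rw [Ind.c hU i.p_mem i.q_mem] at e; simpa using e)
    have b5 : p * w ≠ q * w := fun e => i.pq (by simpa using e)
    have b6 : p ≠ p * q * w := fun e => hqw1 (by rw [mul_assoc] at e; simpa using e.symm)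
    have b7 : q ≠ p * q * w := fun e => hpw1 (by
      rw [Ind.c hU i.p_mem i.q_mem, mul_assoc] at e; simpa using e.symm)
    have b8 : p * w ≠ p * q * w := fun e => i.q_ne (by
      rw [mul_assoc] at e
      have e' : w = q * w := by simpa using e
      simpa using e'.symm)
    have b9 : q * w ≠ p * q * w := fun e => i.p_ne (by
      rw [mul_assoc] at e; simpa using e.symm)
    simp only [s]
    rw [Finset.card_insert_of_notMem, Finset.card_insert_of_notMem, Finset.card_insert_of_notMem,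
      Finset.card_insert_of_notMem, Finset.card_insert_of_notMem, Finset.card_insert_of_notMem,
      Finset.card_insert_of_notMem, Finset.card_insert_of_notMem, Finset.card_singleton]
    · simpa using h8.symm
    · simp only [Finset.mem_insert, Finset.mem_singleton, not_or]; exact ⟨b9, h7.symm⟩
    · simp only [Finset.mem_insert, Finset.mem_singleton, not_or]; exact ⟨b5, b8, h6.symm⟩
    · simp only [Finset.mem_insert, Finset.mem_singleton, not_or]; exact ⟨a4, a6, a8, h5.symm⟩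
    · simp only [Finset.mem_insert, Finset.mem_singleton, not_or]; exact ⟨i.pqw, b3, b4, a7, h4.symm⟩
    · simp only [Finset.mem_insert, Finset.mem_singleton, not_or]
      exact ⟨a1.symm, i.qw, b1.symm, a5, b7, h3.symm⟩
    · simp only [Finset.mem_insert, Finset.mem_singleton, not_or]
      exact ⟨i.pq, a2, i.pw, a3, b2.symm, b6, h2.symm⟩
    · simp only [Finset.mem_insert, Finset.mem_singleton, not_or]
      exact ⟨i.p_ne.symm, i.q_ne.symm, hpq1.symm, i.w_ne.symm, hpw1.symm, hqw1.symm, hpqw1.symm, h1.symm⟩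
  have hsub : (s : Set G) ⊆ (U : Set G) := by
    intro x hx
    simp only [s, Finset.coe_insert, Finset.coe_singleton, Set.mem_insert_iff, Set.mem_singleton_iff] at hx
    have p1 := i.p_mem
    have p2 := i.q_mem
    have p3 := i.w_mem
    rcases hx with rfl | rfl | rfl | rfl | rfl | rfl | rfl | rfl | rfl
    exacts [one_mem _, p1, p2, mul_mem p1 p2, p3, mul_mem p1 p3, mul_mem p2 p3, mul_mem (mul_mem p1 p2) p3, hu]
  have h9 := Set.ncard_le_ncard hsub (Set.toFinite _)
  rw [Set.ncard_coe_finset, hs] at h9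
  have h10 : (U : Set G).ncard = 8 := by rw [← h.card_U]; rfl
  omega

/-- an element which maps a basis of `U` into `U` normalises `U` -/
theorem nU_of (h : Plane z U W K L) {p q w g : G} (i : Ind U p q w) (hp : g * p * g⁻¹ ∈ U)
    (hq : g * q * g⁻¹ ∈ U) (hw : g * w * g⁻¹ ∈ U) {u : G} (hu : u ∈ U) : g * u * g⁻¹ ∈ U := by
  have m : ∀ a b : G, g * a * g⁻¹ ∈ U → g * b * g⁻¹ ∈ U → g * (a * b) * g⁻¹ ∈ U := by
    intro a b ha hb
    have e : g * (a * b) * g⁻¹ = (g * a * g⁻¹) * (g * b * g⁻¹) := by group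
    rw [e]; exact mul_mem ha hb
  rcases h.mem_cases i hu with rfl | rfl | rfl | rfl | rfl | rfl | rfl | rfl
  · simp [one_mem]
  · exact hp
  · exact hq
  · exact m _ _ hp hq
  · exact hw
  · exact m _ _ hp hw
  · exact m _ _ hq hw
  · exact m _ _ (m _ _ hp hq) hw

/-- the nice transvections -/
theorem exists_tv (h : Plane z U W K L) {p u w : G} (i : Ind U p u w) :
    ∃ l, Nice U W l ∧ l * p * l⁻¹ = p ∧ l * u * l⁻¹ = u * p ∧ l * w * l⁻¹ = w := by
  obtain ⟨l, hl, h1, h2⟩ := h.L_tv p u w i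
  have h0 : l * p * l⁻¹ = p := by rw [h.L_cent p i.p_mem i.p_ne l hl, mul_inv_cancel_right]
  have hn : ∀ x ∈ U, l * x * l⁻¹ ∈ U := fun x hx => h.nU_of i (by rw [h0]; exact i.p_mem)
    (by rw [h1]; exact mul_mem i.q_mem i.p_mem) (by rw [h2]; exact i.w_mem) hx
  have h0' : l⁻¹ * p * l = p := by
    calc l⁻¹ * p * l = l⁻¹ * (l * p * l⁻¹) * l := by rw [h0]
      _ = p := by group
  have h2' : l⁻¹ * w * l = w := by
    calc l⁻¹ * w * l = l⁻¹ * (l * w * l⁻¹) * l := by rw [h2]
      _ = w := by group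
  have h1' : l⁻¹ * u * l = u * p := by
    have : l⁻¹ * (l * u * l⁻¹) * l = l⁻¹ * (u * p) * l := by rw [h1]
    have e1 : l⁻¹ * (l * u * l⁻¹) * l = u := by group
    have e2 : l⁻¹ * (u * p) * l = (l⁻¹ * u * l) * (l⁻¹ * p * l) := by group
    rw [e1, e2, h0'] at this
    calc l⁻¹ * u * l = (l⁻¹ * u * l) * p * p := by
          rw [mul_assoc (l⁻¹ * u * l), h.sq_U p i.p_mem, mul_one]
      _ = u * p := by rw [← this]
  have hn' : ∀ x ∈ U, l⁻¹ * x * l ∈ U := fun x hx => by
    have := h.nU_of (g := l⁻¹) i (by rw [inv_inv, h0']; exact i.p_mem)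
      (by rw [inv_inv, h1']; exact mul_mem i.q_mem i.p_mem) (by rw [inv_inv, h2']; exact i.w_mem) hx
    rwa [inv_inv] at this
  refine ⟨l, ⟨hn, hn', ?_, ?_⟩, h0, h1, h2⟩
  · intro d hd
    have h3 := h.L_B p i.p_mem i.p_ne l hl d (h.D_le_B i.p_mem i.p_ne hd)
    refine h.D_inf_W i.p_mem i.p_ne h3 ?_ i
    exact mul_mem (h.conj_D hn' hd) (inv_mem hd)
  · intro c hc
    obtain ⟨y, hy, b, hb, rfl⟩ := h.cent p i.p_mem i.p_ne c hc
    have h3 := h.W_le_Y i.p_mem i.p_ne (h.L_B p i.p_mem i.p_ne l hl b hb)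
    have e : l * (y * b) * l⁻¹ * (y * b)⁻¹ = (l * y * l⁻¹) * (l * b * l⁻¹ * b⁻¹) * y⁻¹ := by group
    rw [e]
    exact mul_mem (mul_mem (h.conj_Y hn hy) h3) (inv_mem hy)

/-- a nice element which maps the triple `x0, x1, x2` to `a, b, c` -/
def Rch (U : Subgroup G) (W : G → Subgroup G) (x0 x1 x2 a b c : G) : Prop :=
  Ind U a b c ∧ ∃ g, Nice U W g ∧ g * x0 * g⁻¹ = a ∧ g * x1 * g⁻¹ = b ∧ g * x2 * g⁻¹ = c

theorem conj_conj {l g x a b : G} (h1 : g * x * g⁻¹ = a) (h2 : l * a * l⁻¹ = b) :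
    l * g * x * (l * g)⁻¹ = b := by
  rw [← h2, ← h1]; group

theorem Rch.sab (h : Plane z U W K L) {x0 x1 x2 a b c : G} (r : Rch U W x0 x1 x2 a b c) :
    Rch U W x0 x1 x2 (a * b) b c := by
  obtain ⟨i, g, hg, h0, h1, h2⟩ := r
  obtain ⟨l, hl, l1, l2, l3⟩ := h.exists_tv (i.swap h.sq_U)
  exact ⟨i.mul h.sq_U, l * g, h.nice_mul hl hg, conj_conj h0 l2, conj_conj h1 l1, conj_conj h2 l3⟩

theorem Rch.rot (h : Plane z U W K L) {x0 x1 x2 a b c : G} (r : Rch U W x0 x1 x2 a b c) :
    Rch U W x1 x2 x0 b c a := by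
  obtain ⟨i, g, hg, h0, h1, h2⟩ := r
  exact ⟨i.rot h.sq_U, g, hg, h1, h2, h0⟩

theorem Rch.swap (h : Plane z U W K L) {x0 x1 x2 a b c : G} (r : Rch U W x0 x1 x2 a b c) :
    Rch U W x1 x0 x2 b a c := by
  obtain ⟨i, g, hg, h0, h1, h2⟩ := r
  exact ⟨i.swap h.sq_U, g, hg, h1, h0, h2⟩

theorem Rch.sba (h : Plane z U W K L) {x0 x1 x2 a b c : G} (r : Rch U W x0 x1 x2 a b c) :
    Rch U W x0 x1 x2 a (b * a) c := Rch.swap h (Rch.sab h (Rch.swap h r))

theorem Rch.sbc (h : Plane z U W K L) {x0 x1 x2 a b c : G} (r : Rch U W x0 x1 x2 a b c) :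
    Rch U W x0 x1 x2 a (b * c) c := Rch.rot h (Rch.rot h (Rch.sab h (Rch.rot h r)))

theorem Rch.scb (h : Plane z U W K L) {x0 x1 x2 a b c : G} (r : Rch U W x0 x1 x2 a b c) :
    Rch U W x0 x1 x2 a b (c * b) := Rch.rot h (Rch.rot h (Rch.sba h (Rch.rot h r)))

theorem Rch.sca (h : Plane z U W K L) {x0 x1 x2 a b c : G} (r : Rch U W x0 x1 x2 a b c) :
    Rch U W x0 x1 x2 a b (c * a) := Rch.rot h (Rch.sab h (Rch.rot h (Rch.rot h r)))

theorem exists_f0 (h : Plane z U W K L) {x0 x1 x2 : G} (i : Ind U x0 x1 x2) :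
    ∃ g, Nice U W g ∧ g * x0 * g⁻¹ = x1 ∧ g * x1 * g⁻¹ = x2 ∧ g * x2 * g⁻¹ = x0 * x1 := by
  have r0 : Rch U W x0 x1 x2 x0 x1 x2 := ⟨i, 1, h.nice_one, by simp, by simp, by simp⟩
  have hU := h.sq_U
  have c := fun {u v : G} (hu : u ∈ U) (hv : v ∈ U) => h.comm_U hu hv
  have m0 := i.p_mem
  have m1 := i.q_mem
  have m2 := i.w_mem
  -- swap the first two
  have r1 := Rch.sab h r0
  have r2 := Rch.sba h r1
  have e2 : x1 * (x0 * x1) = x0 := by rw [c m0 m1, ← mul_assoc, hU _ m1, one_mul]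
  rw [e2] at r2
  have r3 := Rch.sab h r2
  have e3 : x0 * x1 * x0 = x1 := by rw [c m0 m1, mul_assoc, hU _ m0, mul_one]
  rw [e3] at r3
  -- swap the last two
  have r4 := Rch.sbc h r3
  have r5 := Rch.scb h r4
  have e5 : x2 * (x0 * x2) = x0 := by rw [c m0 m2, ← mul_assoc, hU _ m2, one_mul]
  rw [e5] at r5
  have r6 := Rch.sbc h r5
  have e6 : x0 * x2 * x0 = x2 := by rw [c m0 m2, mul_assoc, hU _ m0, mul_one]
  rw [e6] at r6
  have r7 := Rch.sca h r6
  exact r7.2

theorem exists_h (h : Plane z U W K L) {x0 x1 x2 : G} (i : Ind U x0 x1 x2) :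
    ∃ g, Nice U W g ∧ g * x0 * g⁻¹ = x0 ∧ g * x1 * g⁻¹ = x2 ∧ g * x2 * g⁻¹ = x1 * x2 := by
  have r0 : Rch U W x0 x1 x2 x0 x1 x2 := ⟨i, 1, h.nice_one, by simp, by simp, by simp⟩
  have hU := h.sq_U
  have c := fun {u v : G} (hu : u ∈ U) (hv : v ∈ U) => h.comm_U hu hv
  have m1 := i.q_mem
  have m2 := i.w_mem
  have r1 := Rch.scb h r0
  have r2 := Rch.sbc h r1
  have e2 : x1 * (x2 * x1) = x2 := by rw [c m2 m1, ← mul_assoc, hU _ m1, one_mul]
  rw [e2] at r2
  obtain ⟨-, g, hg, h0, h1, h2⟩ := r2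
  exact ⟨g, hg, h0, h1, by rw [h2, c m2 m1]⟩

/-- an element of order seven -/
theorem exists_f (h : Plane z U W K L) {x0 x1 x2 : G} (i : Ind U x0 x1 x2) :
    ∃ g, Nice U W g ∧ g ^ 7 = 1 ∧ g * x0 * g⁻¹ = x1 ∧ g * x1 * g⁻¹ = x2 ∧ g * x2 * g⁻¹ = x0 * x1 := by
  obtain ⟨g, hg, h0, h1, h2⟩ := h.exists_f0 i
  have hU := h.sq_U
  have c := fun {u v : G} (hu : u ∈ U) (hv : v ∈ U) => h.comm_U hu hv
  have m0 := i.p_mem
  have m1 := i.q_mem
  have m2 := i.w_mem
  have hm : ∀ a b : G, g * (a * b) * g⁻¹ = (g * a * g⁻¹) * (g * b * g⁻¹) := fun a b => by group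
  -- the orbit of `x0`
  have h3 : g * (x0 * x1) * g⁻¹ = x1 * x2 := by rw [hm, h0, h1]
  have h4 : g * (x1 * x2) * g⁻¹ = x2 * (x0 * x1) := by rw [hm, h1, h2]
  have h5 : g * (x2 * (x0 * x1)) * g⁻¹ = x0 * x2 := by
    rw [hm, h2, h3]
    calc x0 * x1 * (x1 * x2) = x0 * (x1 * x1) * x2 := by group
      _ = x0 * x2 := by rw [hU _ m1, mul_one]
  have h6 : g * (x0 * x2) * g⁻¹ = x0 := by
    rw [hm, h0, h2, c m0 m1, ← mul_assoc, hU _ m1, one_mul]
  have st : ∀ {x y : G} {n : ℕ}, g ^ n * x0 * (g ^ n)⁻¹ = x → g * x * g⁻¹ = y →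
      g ^ (n + 1) * x0 * (g ^ (n + 1))⁻¹ = y := by
    intro x y n e1 e2
    rw [← e2, ← e1, pow_succ']; group
  have s1 := st (n := 0) (x := x0) (by simp) h0
  have s2 := st s1 h1
  have s3 := st s2 h2
  have s4 := st s3 h3
  have s5 := st s4 h4
  have s6 := st s5 h5
  have s7 := st s6 h6
  norm_num at s7
  have k1 : g ^ 7 * x1 * (g ^ 7)⁻¹ = x1 := by
    rw [← h0]
    calc g ^ 7 * (g * x0 * g⁻¹) * (g ^ 7)⁻¹ = g * (g ^ 7 * x0 * (g ^ 7)⁻¹) * g⁻¹ := by group
      _ = _ := by rw [s7]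
  have k2 : g ^ 7 * x2 * (g ^ 7)⁻¹ = x2 := by
    rw [← h1]
    calc g ^ 7 * (g * x1 * g⁻¹) * (g ^ 7)⁻¹ = g * (g ^ 7 * x1 * (g ^ 7)⁻¹) * g⁻¹ := by group
      _ = _ := by rw [k1]
  have hC : g ^ 7 ∈ centralizer (U : Set G) := by
    rw [mem_C]
    intro u hu
    apply mul_inv_eq_iff_eq_mul.1
    have mm : ∀ a b : G, g ^ 7 * a * (g ^ 7)⁻¹ = a → g ^ 7 * b * (g ^ 7)⁻¹ = b →
        g ^ 7 * (a * b) * (g ^ 7)⁻¹ = a * b := by
      intro a b ha hb
      calc g ^ 7 * (a * b) * (g ^ 7)⁻¹ = (g ^ 7 * a * (g ^ 7)⁻¹) * (g ^ 7 * b * (g ^ 7)⁻¹) := by group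
        _ = a * b := by rw [ha, hb]
    rcases h.mem_cases i hu with rfl | rfl | rfl | rfl | rfl | rfl | rfl | rfl
    · group
    · exact s7
    · exact k1
    · exact mm _ _ s7 k1
    · exact k2
    · exact mm _ _ s7 k2
    · exact mm _ _ k1 k2
    · exact mm _ _ (mm _ _ s7 k1) k2
  obtain ⟨k, hk⟩ := h.two ⟨g ^ 7, hC⟩
  have hk' : (g ^ 7) ^ 2 ^ k = 1 := congrArg Subtype.val hk
  -- `8 ^ k = 7 j + 1`
  have h8 : ∃ j, 8 ^ k = 7 * j + 1 := by
    have : 8 ^ k % 7 = 1 := by rw [Nat.pow_mod]; norm_num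
    exact ⟨8 ^ k / 7, by omega⟩
  obtain ⟨j, hj⟩ := h8
  have e8 : g ^ 8 ^ k = (g ^ 7) ^ j * g := by rw [hj, pow_add, pow_mul, pow_one]
  have act : ∀ u ∈ U, g ^ 8 ^ k * u * (g ^ 8 ^ k)⁻¹ = g * u * g⁻¹ := by
    intro u hu
    rw [e8]
    have h9 := conj_C (pow_mem hC j) (hg.nU u hu)
    calc (g ^ 7) ^ j * g * u * ((g ^ 7) ^ j * g)⁻¹ = (g ^ 7) ^ j * (g * u * g⁻¹) * ((g ^ 7) ^ j)⁻¹ := by group
      _ = _ := h9
  refine ⟨g ^ 8 ^ k, h.nice_pow hg _, ?_, ?_, ?_, ?_⟩
  · calc (g ^ 8 ^ k) ^ 7 = ((g ^ 7) ^ 2 ^ k) ^ 4 ^ k := by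
          rw [← pow_mul, ← pow_mul, ← pow_mul]
          congr 1
          rw [show (8 : ℕ) = 2 * 4 by norm_num, mul_pow]; ring
      _ = 1 := by rw [hk', one_pow]
  · rw [act _ m0]; exact h0
  · rw [act _ m1]; exact h1
  · rw [act _ m2]; exact h2

end Plane

/-- the frame -/
structure Frame (U : Subgroup G) (W K : G → Subgroup G) (x0 x1 x2 f h a b : G) : Prop where
  ind : Ind U x0 x1 x2
  nf : Nice U W f
  f7 : f ^ 7 = 1
  f0 : f * x0 * f⁻¹ = x1
  f1 : f * x1 * f⁻¹ = x2
  f2 : f * x2 * f⁻¹ = x0 * x1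
  nh : Nice U W h
  h0 : h * x0 * h⁻¹ = x0
  h1 : h * x1 * h⁻¹ = x2
  h2 : h * x2 * h⁻¹ = x1 * x2
  fa : Fl U W K x0 x1 a
  fb : Fl U W K x0 x2 b

theorem Plane.exists_frame {z : G} {U : Subgroup G} {W K L : G → Subgroup G} (h : Plane z U W K L) :
    ∃ x0 x1 x2 f h a b, Frame U W K x0 x1 x2 f h a b := by
  obtain ⟨x0, x1, x2, i⟩ := h.exists_ind
  obtain ⟨f, nf, f7, f0, f1, f2⟩ := h.exists_f i
  obtain ⟨t, nh, h0, h1, h2⟩ := h.exists_h i
  obtain ⟨a, fa⟩ := h.exists_fl x0 i.p_mem i.p_ne x1 i.q_mem i.q_ne i.pq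
  obtain ⟨b, fb⟩ := h.exists_fl x0 i.p_mem i.p_ne x2 i.w_mem i.w_ne i.pw
  exact ⟨x0, x1, x2, f, t, a, b, ⟨i, nf, f7, f0, f1, f2, nh, h0, h1, h2, fa, fb⟩⟩

end Cfsg.Agent.Omega.NOThree.Ru

end

section


/-!
# Products of involutions which commute modulo a central elementary abelian group

`ι : ℕ → G` with `ι (m ^^^ n) = ι m * ι n` (a central elementary abelian subgroup, numbered by bits), a list `gs` of
involutions and a triangular table `T` of numbers with `gᵢ gⱼ = gⱼ gᵢ ι(T i j)`, `i < j` (`Good ι gs T`).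
`elt gs a` is the product of the `gᵢ` over the bits of `a`.

* `Good.bf` : `elt gs a * elt gs b = elt gs b * elt gs a * ι (Bf T a b)`;
* `Good.sq` : `elt gs a * elt gs a = ι (Qf T a)`;
* `Good.mul` : `elt gs a * elt gs b = elt gs (a ^^^ b) * ι n` for some `n`;
* `elt_map`, `Good.subst` : conjugation and substitution.
-/

set_option autoImplicit false

namespace Cfsg.Agent.Omega.NOThree.Ru.Code

/-- xor of the entries of the list at the bits of `a` -/
def dot : List ℕ → ℕ → ℕ
  | [], _ => 0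
  | c :: l, a => (if a % 2 = 1 then c else 0) ^^^ dot l (a / 2)

/-- the form -/
def Bf : List (List ℕ) → ℕ → ℕ → ℕ
  | [], _, _ => 0
  | r :: T, a, b => (if a % 2 = 1 then dot r (b / 2) else 0) ^^^ ((if b % 2 = 1 then dot r (a / 2) else 0) ^^^
      Bf T (a / 2) (b / 2))

/-- the squares -/
def Qf : List (List ℕ) → ℕ → ℕ
  | [], _ => 0
  | r :: T, a => (if a % 2 = 1 then dot r (a / 2) else 0) ^^^ Qf T (a / 2)

variable {G : Type*} [Group G]

/-- product over the bits of `a` -/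
def elt : List G → ℕ → G
  | [], _ => 1
  | g :: gs, a => (if a % 2 = 1 then g else 1) * elt gs (a / 2)

/-- the commutators of `g` with a list -/
def Row (ι : ℕ → G) (g : G) : List G → List ℕ → Prop
  | [], [] => True
  | h :: gs, c :: r => g * h = h * g * ι c ∧ Row ι g gs r
  | _, _ => False

/-- the commutator table -/
def Good (ι : ℕ → G) : List G → List (List ℕ) → Prop
  | [], [] => True
  | g :: gs, r :: T => (g * g = 1 ∧ (∀ n, g * ι n = ι n * g) ∧ Row ι g gs r) ∧ Good ι gs T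
  | _, _ => False

theorem xor_mod_two (a b : ℕ) : (a ^^^ b) % 2 = (a % 2 + b % 2) % 2 := by
  rw [← Nat.and_one_is_mod, ← Nat.and_one_is_mod, ← Nat.and_one_is_mod]
  have h1 : (a ^^^ b) &&& 1 = (a &&& 1) ^^^ (b &&& 1) := Nat.and_xor_distrib_right
  rw [h1]
  rcases Nat.mod_two_eq_zero_or_one a with ha | ha <;> rcases Nat.mod_two_eq_zero_or_one b with hb | hb <;>
    simp [Nat.and_one_is_mod, ha, hb]

theorem xor_div_two (a b : ℕ) : (a ^^^ b) / 2 = (a / 2) ^^^ (b / 2) := by
  rw [← Nat.shiftRight_one, ← Nat.shiftRight_one, ← Nat.shiftRight_one, Nat.shiftRight_xor_distrib]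

section Iota

variable {ι : ℕ → G} (hι : ∀ m n, ι (m ^^^ n) = ι m * ι n)

include hι

theorem ι_zero : ι 0 = 1 := by
  have := hι 0 0
  rw [Nat.xor_self] at this
  exact left_eq_mul.1 this

theorem ι_sq (n : ℕ) : ι n * ι n = 1 := by
  rw [← hι, Nat.xor_self, ι_zero hι]

theorem ι_comm (m n : ℕ) : ι m * ι n = ι n * ι m := by
  rw [← hι, ← hι, Nat.xor_comm]

omit hι in
theorem elt_cons_odd (g : G) (gs : List G) {a : ℕ} (h : a % 2 = 1) : elt (g :: gs) a = g * elt gs (a / 2) := by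
  simp only [elt, if_pos h]

omit hι in
theorem elt_cons_even (g : G) (gs : List G) {a : ℕ} (h : a % 2 = 0) : elt (g :: gs) a = elt gs (a / 2) := by
  have h' : ¬ a % 2 = 1 := by omega
  simp only [elt, if_neg h', one_mul]

omit hι in
theorem elt_zero (gs : List G) : elt gs 0 = 1 := by
  induction gs with
  | nil => rfl
  | cons g gs ih => rw [elt_cons_even g gs (by norm_num)]; simpa using ih

omit hι in
theorem Good.elt_comm {gs : List G} {T : List (List ℕ)} (h : Good ι gs T) (a n : ℕ) :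
    elt gs a * ι n = ι n * elt gs a := by
  induction gs generalizing T a with
  | nil => simp [elt]
  | cons g gs ih =>
    cases T with
    | nil => exact h.elim
    | cons r T =>
      obtain ⟨⟨-, h2, -⟩, h3⟩ := h
      rcases Nat.mod_two_eq_zero_or_one a with ha | ha
      · rw [elt_cons_even g gs ha]; exact ih h3 _
      · rw [elt_cons_odd g gs ha, mul_assoc, ih h3, ← mul_assoc, h2, mul_assoc]

theorem Row.elt {g : G} {gs : List G} {r : List ℕ} {T : List (List ℕ)} (h : Row ι g gs r) (hT : Good ι gs T)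
    (_hg : ∀ n, g * ι n = ι n * g) (a : ℕ) : g * elt gs a = elt gs a * g * ι (dot r a) := by
  induction gs generalizing r T a with
  | nil =>
    cases r with
    | nil => simp [Code.elt, dot, ι_zero hι]
    | cons c r => exact h.elim
  | cons h' gs ih =>
    cases r with
    | nil => exact h.elim
    | cons c r =>
      cases T with
      | nil => exact hT.elim
      | cons r' T =>
        obtain ⟨h1, h2⟩ := h
        obtain ⟨⟨-, hc, -⟩, hT2⟩ := hT
        have e := ih h2 hT2 (a / 2)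
        rcases Nat.mod_two_eq_zero_or_one a with ha | ha
        · have h' : ¬ a % 2 = 1 := by omega
          rw [elt_cons_even _ gs ha, e]
          simp only [dot, if_neg h', Nat.zero_xor]
        · rw [elt_cons_odd _ gs ha]
          simp only [dot, if_pos ha]
          rw [hι]
          calc g * (h' * Code.elt gs (a / 2)) = (g * h') * Code.elt gs (a / 2) := by rw [mul_assoc]
            _ = h' * g * (ι c * Code.elt gs (a / 2)) := by rw [h1]; simp only [mul_assoc]
            _ = h' * (g * Code.elt gs (a / 2)) * ι c := by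
                rw [← hT2.elt_comm]; simp only [mul_assoc]
            _ = h' * Code.elt gs (a / 2) * g * (ι (dot r (a / 2)) * ι c) := by
                rw [e]; simp only [mul_assoc]
            _ = _ := by rw [ι_comm hι]

theorem Good.bf {gs : List G} {T : List (List ℕ)} (h : Good ι gs T) (a b : ℕ) :
    elt gs a * elt gs b = elt gs b * elt gs a * ι (Bf T a b) := by
  induction gs generalizing T a b with
  | nil =>
    cases T with
    | nil => simp [elt, Bf, ι_zero hι]
    | cons r T => exact h.elim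
  | cons g gs ih =>
    cases T with
    | nil => exact h.elim
    | cons r T =>
      obtain ⟨⟨h1, h2, h3⟩, h4⟩ := h
      have hc := fun m n => h4.elt_comm m n
      have hr := h3.elt hι h4 h2
      have e := ih h4 (a / 2) (b / 2)
      set A := elt gs (a / 2) with hA
      set B := elt gs (b / 2) with hB
      set β := Bf T (a / 2) (b / 2) with hβ
      have cA : ∀ n, A * ι n = ι n * A := fun n => hc _ n
      have cB : ∀ n, B * ι n = ι n * B := fun n => hc _ n
      have rA : g * A = A * g * ι (dot r (a / 2)) := hr (a / 2)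
      have rB : g * B = B * g * ι (dot r (b / 2)) := hr (b / 2)
      have rA' : A * g = g * A * ι (dot r (a / 2)) := by
        rw [rA, mul_assoc (A * g), ι_sq hι, mul_one]
      rcases Nat.mod_two_eq_zero_or_one a with ha | ha <;> rcases Nat.mod_two_eq_zero_or_one b with hb | hb
      · have ha' : ¬ a % 2 = 1 := by omega
        have hb' : ¬ b % 2 = 1 := by omega
        rw [elt_cons_even g gs ha, elt_cons_even g gs hb, ← hA, ← hB, e]
        simp only [Bf, if_neg ha', if_neg hb', Nat.zero_xor, ← hβ]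
      · have ha' : ¬ a % 2 = 1 := by omega
        rw [elt_cons_even g gs ha, elt_cons_odd g gs hb, ← hA, ← hB]
        simp only [Bf, if_neg ha', if_pos hb, Nat.zero_xor, ← hβ]
        rw [hι]
        calc A * (g * B) = (A * g) * B := by rw [mul_assoc]
          _ = g * A * (ι (dot r (a / 2)) * B) := by rw [rA']; simp only [mul_assoc]
          _ = g * (A * B) * ι (dot r (a / 2)) := by rw [← cB]; simp only [mul_assoc]
          _ = g * B * A * (ι β * ι (dot r (a / 2))) := by rw [e]; simp only [mul_assoc]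
          _ = _ := by rw [ι_comm hι β]
      · have hb' : ¬ b % 2 = 1 := by omega
        rw [elt_cons_odd g gs ha, elt_cons_even g gs hb, ← hA, ← hB]
        simp only [Bf, if_pos ha, if_neg hb', Nat.zero_xor, ← hβ]
        rw [hι]
        calc g * A * B = g * (A * B) := by rw [mul_assoc]
          _ = g * B * (A * ι β) := by rw [e]; simp only [mul_assoc]
          _ = B * g * (ι (dot r (b / 2)) * A) * ι β := by rw [rB]; simp only [mul_assoc]
          _ = B * (g * A) * (ι (dot r (b / 2)) * ι β) := by rw [← cA]; simp only [mul_assoc]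
      · rw [elt_cons_odd g gs ha, elt_cons_odd g gs hb, ← hA, ← hB]
        simp only [Bf, if_pos ha, if_pos hb, ← hβ]
        rw [hι, hι]
        calc g * A * (g * B) = g * (A * g) * B := by simp only [mul_assoc]
          _ = g * g * A * (ι (dot r (a / 2)) * B) := by rw [rA']; simp only [mul_assoc]
          _ = (A * B) * ι (dot r (a / 2)) := by rw [h1, one_mul, ← cB]; simp only [mul_assoc]
          _ = B * A * ι β * ι (dot r (a / 2)) := by rw [e]
          _ = g * (g * B) * A * ι β * ι (dot r (a / 2)) := by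
              rw [← mul_assoc g g B, h1, one_mul]
          _ = g * (B * g) * (ι (dot r (b / 2)) * A) * ι β * ι (dot r (a / 2)) := by
              rw [rB]; simp only [mul_assoc]
          _ = g * B * (g * A) * (ι (dot r (b / 2)) * (ι β * ι (dot r (a / 2)))) := by
              rw [← cA]; simp only [mul_assoc]
          _ = _ := by rw [ι_comm hι β]

theorem Good.sq {gs : List G} {T : List (List ℕ)} (h : Good ι gs T) (a : ℕ) :
    elt gs a * elt gs a = ι (Qf T a) := by
  induction gs generalizing T a with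
  | nil =>
    cases T with
    | nil => simp [elt, Qf, ι_zero hι]
    | cons r T => exact h.elim
  | cons g gs ih =>
    cases T with
    | nil => exact h.elim
    | cons r T =>
      obtain ⟨⟨h1, h2, h3⟩, h4⟩ := h
      have hc := fun m n => h4.elt_comm m n
      have hr := h3.elt hι h4 h2
      have e := ih h4 (a / 2)
      set A := elt gs (a / 2) with hA
      have cA : ∀ n, A * ι n = ι n * A := fun n => hc _ n
      have rA : g * A = A * g * ι (dot r (a / 2)) := hr (a / 2)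
      have rA' : A * g = g * A * ι (dot r (a / 2)) := by
        rw [rA, mul_assoc (A * g), ι_sq hι, mul_one]
      rcases Nat.mod_two_eq_zero_or_one a with ha | ha
      · have ha' : ¬ a % 2 = 1 := by omega
        rw [elt_cons_even g gs ha, ← hA, e]
        simp only [Qf, if_neg ha', Nat.zero_xor]
      · rw [elt_cons_odd g gs ha, ← hA]
        simp only [Qf, if_pos ha]
        rw [hι]
        calc g * A * (g * A) = g * (A * g) * A := by simp only [mul_assoc]
          _ = g * g * A * (ι (dot r (a / 2)) * A) := by rw [rA']; simp only [mul_assoc]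
          _ = A * A * ι (dot r (a / 2)) := by rw [h1, one_mul, ← cA]; simp only [mul_assoc]
          _ = _ := by rw [e, ι_comm hι]

theorem Good.mul {gs : List G} {T : List (List ℕ)} (h : Good ι gs T) (a b : ℕ) :
    ∃ n, elt gs a * elt gs b = elt gs (a ^^^ b) * ι n := by
  induction gs generalizing T a b with
  | nil => exact ⟨0, by simp [elt, ι_zero hι]⟩
  | cons g gs ih =>
    cases T with
    | nil => exact h.elim
    | cons r T =>
      obtain ⟨⟨h1, h2, h3⟩, h4⟩ := h
      have hc := fun m n => h4.elt_comm m n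
      have hr := h3.elt hι h4 h2
      obtain ⟨n, e⟩ := ih h4 (a / 2) (b / 2)
      set A := elt gs (a / 2) with hA
      set B := elt gs (b / 2) with hB
      have cA : ∀ n, A * ι n = ι n * A := fun n => hc _ n
      have cB : ∀ n, B * ι n = ι n * B := fun n => hc _ n
      have rA : g * A = A * g * ι (dot r (a / 2)) := hr (a / 2)
      have rA' : A * g = g * A * ι (dot r (a / 2)) := by
        rw [rA, mul_assoc (A * g), ι_sq hι, mul_one]
      rcases Nat.mod_two_eq_zero_or_one a with ha | ha <;> rcases Nat.mod_two_eq_zero_or_one b with hb | hb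
      · refine ⟨n, ?_⟩
        rw [elt_cons_even g gs ha, elt_cons_even g gs hb,
          elt_cons_even g gs (by rw [xor_mod_two, ha, hb]), xor_div_two, ← hA, ← hB, e]
      · refine ⟨n ^^^ dot r (a / 2), ?_⟩
        rw [elt_cons_even g gs ha, elt_cons_odd g gs hb,
          elt_cons_odd g gs (by rw [xor_mod_two, ha, hb]), xor_div_two, ← hA, ← hB, hι]
        calc A * (g * B) = (A * g) * B := by rw [mul_assoc]
          _ = g * A * (ι (dot r (a / 2)) * B) := by rw [rA']; simp only [mul_assoc]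
          _ = g * (A * B) * ι (dot r (a / 2)) := by rw [← cB]; simp only [mul_assoc]
          _ = _ := by rw [e]; simp only [mul_assoc]
      · refine ⟨n, ?_⟩
        rw [elt_cons_odd g gs ha, elt_cons_even g gs hb,
          elt_cons_odd g gs (by rw [xor_mod_two, ha, hb]), xor_div_two, ← hA, ← hB, mul_assoc, e, mul_assoc]
      · refine ⟨n ^^^ dot r (a / 2), ?_⟩
        rw [elt_cons_odd g gs ha, elt_cons_odd g gs hb,
          elt_cons_even g gs (by rw [xor_mod_two, ha, hb]), xor_div_two, ← hA, ← hB, hι]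
        calc g * A * (g * B) = g * (A * g) * B := by simp only [mul_assoc]
          _ = g * g * A * (ι (dot r (a / 2)) * B) := by rw [rA']; simp only [mul_assoc]
          _ = (A * B) * ι (dot r (a / 2)) := by rw [h1, one_mul, ← cB]; simp only [mul_assoc]
          _ = _ := by rw [e]; simp only [mul_assoc]

omit hι in
/-- conjugation -/
theorem conj_elt (f : G) (gs : List G) (a : ℕ) : f * elt gs a * f⁻¹ = elt (gs.map fun g => f * g * f⁻¹) a := by
  induction gs generalizing a with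
  | nil => simp [elt]
  | cons g gs ih =>
    rw [List.map_cons]
    rcases Nat.mod_two_eq_zero_or_one a with ha | ha
    · rw [elt_cons_even _ _ ha, elt_cons_even _ _ ha, ih]
    · rw [elt_cons_odd _ _ ha, elt_cons_odd _ _ ha, ← ih]
      group

/-- substitution: `hᵢ = elt gs Rᵢ` modulo `ι` -/
theorem Good.subst {gs : List G} {T : List (List ℕ)} (h : Good ι gs T) {hs : List G} {R : List ℕ}
    (hR : List.Forall₂ (fun x r => ∃ n, x = elt gs r * ι n) hs R) (a : ℕ) :
    ∃ n, elt hs a = elt gs (dot R a) * ι n := by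
  induction hR generalizing a with
  | nil => exact ⟨0, by simp [elt, dot, ι_zero hι, elt_zero]⟩
  | @cons x r hs R hx _ ih =>
    obtain ⟨m, hm⟩ := hx
    obtain ⟨n, hn⟩ := ih (a / 2)
    rcases Nat.mod_two_eq_zero_or_one a with ha | ha
    · have ha' : ¬ a % 2 = 1 := by omega
      refine ⟨n, ?_⟩
      rw [elt_cons_even _ _ ha, hn]
      simp only [dot, if_neg ha', Nat.zero_xor]
    · obtain ⟨k, hk⟩ := h.mul hι r (dot R (a / 2))
      refine ⟨k ^^^ (m ^^^ n), ?_⟩
      rw [elt_cons_odd _ _ ha, hn, hm, hι, hι]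
      simp only [dot, if_pos ha]
      calc elt gs r * ι m * (elt gs (dot R (a / 2)) * ι n)
          = elt gs r * (ι m * elt gs (dot R (a / 2))) * ι n := by simp only [mul_assoc]
        _ = elt gs r * elt gs (dot R (a / 2)) * (ι m * ι n) := by rw [← h.elt_comm]; simp only [mul_assoc]
        _ = _ := by rw [hk]; simp only [mul_assoc]

end Iota

end Cfsg.Agent.Omega.NOThree.Ru.Code

end

section


/-!
# Codes

`Cd ι gs y n` : `y = elt gs n` modulo `ι`. Linearity of `dot`.
-/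

set_option autoImplicit false

namespace Cfsg.Agent.Omega.NOThree.Ru.Code

theorem xor_swap (a b c d : ℕ) : (a ^^^ b) ^^^ (c ^^^ d) = (a ^^^ c) ^^^ (b ^^^ d) := by
  rw [Nat.xor_assoc, Nat.xor_assoc, ← Nat.xor_assoc b, ← Nat.xor_assoc c, Nat.xor_comm b c]

theorem dot_xor (R : List ℕ) (a b : ℕ) : dot R (a ^^^ b) = dot R a ^^^ dot R b := by
  induction R generalizing a b with
  | nil => simp [dot]
  | cons c R ih =>
    simp only [dot]
    rw [xor_div_two, ih, xor_mod_two, xor_swap]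
    congr 1
    rcases Nat.mod_two_eq_zero_or_one a with ha | ha <;> rcases Nat.mod_two_eq_zero_or_one b with hb | hb <;>
      simp [ha, hb]

theorem dot_zero (R : List ℕ) : dot R 0 = 0 := by
  have := dot_xor R 0 0
  simp only [Nat.xor_self] at this
  exact this

theorem dot_dot (R S : List ℕ) (n : ℕ) : dot R (dot S n) = dot (S.map (dot R)) n := by
  induction S generalizing n with
  | nil => simp [dot, dot_zero]
  | cons c S ih =>
    simp only [dot, List.map_cons]
    rw [dot_xor, ih]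
    congr 1
    split_ifs
    · rfl
    · exact dot_zero R

theorem dot_zip (R S : List ℕ) (hl : R.length = S.length) (n : ℕ) :
    dot R n ^^^ dot S n = dot (List.zipWith (· ^^^ ·) R S) n := by
  induction R generalizing S n with
  | nil =>
    cases S with
    | nil => simp [dot]
    | cons c S => simp at hl
  | cons c R ih =>
    cases S with
    | nil => simp at hl
    | cons d S =>
      simp only [dot, List.zipWith_cons_cons]
      rw [xor_swap, ih S (by simpa using hl)]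
      congr 1
      split_ifs <;> simp

theorem dot_closed (P : ℕ → Prop) (h0 : P 0) (hx : ∀ a b, P a → P b → P (a ^^^ b)) (R : List ℕ)
    (hR : ∀ c ∈ R, P c) (n : ℕ) : P (dot R n) := by
  induction R generalizing n with
  | nil => exact h0
  | cons c R ih =>
    simp only [dot]
    refine hx _ _ ?_ (ih (fun d hd => hR d (List.mem_cons_of_mem _ hd)) _)
    split_ifs
    exacts [hR c (List.mem_cons_self ..), h0]

variable {G : Type*} [Group G]

/-- `y = elt gs n` modulo `ι` -/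
def Cd (ι : ℕ → G) (gs : List G) (y : G) (n : ℕ) : Prop := ∃ m, y = elt gs n * ι m

section

variable {ι : ℕ → G} (hι : ∀ m n, ι (m ^^^ n) = ι m * ι n) {gs : List G} {T : List (List ℕ)}

include hι

theorem Cd.elt (n : ℕ) : Cd ι gs (elt gs n) n := ⟨0, by rw [ι_zero hι, mul_one]⟩

omit hι in
theorem Cd.iota (n : ℕ) : Cd ι gs (ι n) 0 := ⟨n, by rw [elt_zero, one_mul]⟩

theorem Cd.one : Cd ι gs 1 0 := ⟨0, by rw [ι_zero hι, elt_zero, mul_one]⟩

theorem Cd.mul_iota {y : G} {n : ℕ} (h : Cd ι gs y n) (m : ℕ) : Cd ι gs (y * ι m) n := by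
  obtain ⟨k, rfl⟩ := h
  exact ⟨k ^^^ m, by rw [hι, mul_assoc]⟩

theorem Cd.mul (hT : Good ι gs T) {y y' : G} {n n' : ℕ} (h : Cd ι gs y n) (h' : Cd ι gs y' n') :
    Cd ι gs (y * y') (n ^^^ n') := by
  obtain ⟨k, rfl⟩ := h
  obtain ⟨k', rfl⟩ := h'
  obtain ⟨m, hm⟩ := hT.mul hι n n'
  refine ⟨m ^^^ (k ^^^ k'), ?_⟩
  rw [hι, hι]
  calc Code.elt gs n * ι k * (Code.elt gs n' * ι k') = Code.elt gs n * (ι k * Code.elt gs n') * ι k' := by
        simp only [mul_assoc]
    _ = Code.elt gs n * Code.elt gs n' * (ι k * ι k') := by rw [← hT.elt_comm]; simp only [mul_assoc]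
    _ = _ := by rw [hm]; simp only [mul_assoc]

theorem Cd.comm (hT : Good ι gs T) {y y' : G} {n n' : ℕ} (h : Cd ι gs y n) (h' : Cd ι gs y' n') :
    y * y' = y' * y * ι (Bf T n n') := by
  obtain ⟨k, rfl⟩ := h
  obtain ⟨k', rfl⟩ := h'
  have c : ∀ n m, Code.elt gs n * ι m = ι m * Code.elt gs n := fun n m => hT.elt_comm n m
  have e : ∀ A B : G, ∀ m m', (∀ j, A * ι j = ι j * A) → (∀ j, B * ι j = ι j * B) →
      A * ι m * (B * ι m') = A * B * (ι m * ι m') := by
    intro A B m m' _ hB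
    calc A * ι m * (B * ι m') = A * (ι m * B) * ι m' := by simp only [mul_assoc]
      _ = _ := by rw [← hB]; simp only [mul_assoc]
  rw [e _ _ _ _ (c n) (c n'), e _ _ _ _ (c n') (c n), hT.bf hι n n', ι_comm hι k' k,
    mul_assoc (Code.elt gs n' * Code.elt gs n), mul_assoc (Code.elt gs n' * Code.elt gs n), ← hι k k', ι_comm hι]

theorem Cd.sq (hT : Good ι gs T) {y : G} {n : ℕ} (h : Cd ι gs y n) : y * y = ι (Qf T n) := by
  obtain ⟨k, rfl⟩ := h
  calc Code.elt gs n * ι k * (Code.elt gs n * ι k) = Code.elt gs n * (ι k * Code.elt gs n) * ι k := by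
        simp only [mul_assoc]
    _ = Code.elt gs n * Code.elt gs n * (ι k * ι k) := by rw [← hT.elt_comm]; simp only [mul_assoc]
    _ = _ := by rw [hT.sq hι, ι_sq hι, mul_one]

theorem Cd.inv (hT : Good ι gs T) {y : G} {n : ℕ} (h : Cd ι gs y n) : Cd ι gs y⁻¹ n := by
  have e := h.sq hι hT
  have e2 : y⁻¹ = y * ι (Qf T n) := by
    apply inv_eq_of_mul_eq_one_right
    rw [← mul_assoc, e, ι_sq hι]
  rw [e2]
  exact h.mul_iota hι _

/-- conjugation -/
theorem Cd.conj (hT : Good ι gs T) {g : G} {R : List ℕ}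
    (hR : List.Forall₂ (fun x r => Cd ι gs (g * x * g⁻¹) r) gs R) (hg : ∀ m, ∃ m', g * ι m * g⁻¹ = ι m')
    {y : G} {n : ℕ} (h : Cd ι gs y n) : Cd ι gs (g * y * g⁻¹) (dot R n) := by
  obtain ⟨k, rfl⟩ := h
  obtain ⟨k', hk⟩ := hg k
  have h1 : List.Forall₂ (fun x r => ∃ n, x = Code.elt gs r * ι n) (gs.map fun x => g * x * g⁻¹) R := by
    rw [List.forall₂_map_left_iff]
    exact hR
  obtain ⟨m, hm⟩ := hT.subst hι h1 n
  refine ⟨m ^^^ k', ?_⟩
  rw [hι, ← hk]
  calc g * (Code.elt gs n * ι k) * g⁻¹ = g * Code.elt gs n * g⁻¹ * (g * ι k * g⁻¹) := by group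
    _ = _ := by rw [conj_elt, hm, mul_assoc]

/-- substitution -/
theorem Cd.subst (hT : Good ι gs T) {hs : List G} {R : List ℕ}
    (hR : List.Forall₂ (fun x r => Cd ι gs x r) hs R) {y : G} {n : ℕ} (h : Cd ι hs y n) :
    Cd ι gs y (dot R n) := by
  obtain ⟨k, rfl⟩ := h
  obtain ⟨m, hm⟩ := hT.subst hι hR n
  refine ⟨m ^^^ k, ?_⟩
  rw [hm, hι, mul_assoc]

omit hι in
/-- the product of the codes lies in a subgroup -/
theorem Cd.mem_of {S : Subgroup G} (hS : ∀ n, ι n ∈ S) (hgs : ∀ g ∈ gs, g ∈ S) {y : G} {n : ℕ}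
    (h : Cd ι gs y n) : y ∈ S := by
  obtain ⟨k, rfl⟩ := h
  have : ∀ (ls : List G), (∀ g ∈ ls, g ∈ S) → ∀ n, Code.elt ls n ∈ S := by
    intro ls
    induction ls with
    | nil => exact fun _ _ => one_mem _
    | cons g ls ih =>
      intro hl n
      simp only [Code.elt]
      refine mul_mem ?_ (ih (fun x hx => hl x (List.mem_cons_of_mem _ hx)) _)
      split_ifs
      exacts [hl g (List.mem_cons_self ..), one_mem _]
  exact mul_mem (this gs hgs n) (hS k)

end

end Cfsg.Agent.Omega.NOThree.Ru.Code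

end
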